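import Mathlib

/-!
# Fixed points of a solvable linear group: on average at most the square root

For `H` solvable, acting nontrivially and irreducibly on a finite abelian `p`-group `V`,
`∏_{h ∈ H} |C_V(h)| ^ 2 ≤ |V| ^ |H|`.  An abelian normal subgroup `B ≠ 1` has order prime to `p` and
no fixed point; in each coset `h B` the elements `h b` and `h b c` are paired, and a common fixed
point of both is fixed by all the conjugates of `c` under `⟨h⟩`.
-/

set_option autoImplicit false

namespace Cfsg.Agent.H10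

open Finset

variable {V : Type*} [CommGroup V]

/-- The fixed points of an automorphism. -/
def fixSub (f : MulAut V) : Subgroup V :=
  MonoidHom.eqLocus f.toMonoidHom (MonoidHom.id V)

theorem mem_fixSub {f : MulAut V} {v : V} : v ∈ fixSub f ↔ f v = v := Iff.rfl

theorem card_sup_mul_card_inf [Finite V] (A X : Subgroup V) :
    Nat.card ↥(A ⊔ X) * Nat.card ↥(A ⊓ X) = Nat.card A * Nat.card X := by
  have h1 := Subgroup.relIndex_mul_relIndex ⊥ (A ⊓ X) A bot_le inf_le_left
  have h2 := Subgroup.relIndex_mul_relIndex ⊥ X (A ⊔ X) bot_le le_sup_right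
  simp only [Subgroup.relIndex_bot_left] at h1 h2
  rw [← h1, ← h2, Subgroup.relIndex_sup_right, Subgroup.inf_relIndex_left]
  ring

theorem apply_mem_of_mem [Finite V] {X : Subgroup V} {f : MulAut V} (hf : ∀ w ∈ X, f w ∈ X)
    {w : V} (hw : f w ∈ X) : w ∈ X := by
  have hinj : Function.Injective (fun w : X => (⟨f w.1, hf w.1 w.2⟩ : X)) := fun a b h =>
    Subtype.ext (f.injective (congrArg Subtype.val h))
  obtain ⟨⟨y, hy⟩, e⟩ := Finite.injective_iff_surjective.1 hinj ⟨f w, hw⟩
  exact f.injective (congrArg Subtype.val e) ▸ hy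

/-- The bound on one coset of an abelian subgroup without fixed points of order prime to `|V|`. -/
theorem coset_bound [Finite V] (B : Subgroup (MulAut V)) [Fintype B]
    (hB : ∀ b ∈ B, ∀ b' ∈ B, b * b' = b' * b) (h : MulAut V)
    (hn : h ∈ Subgroup.normalizer (B : Set (MulAut V)))
    (hco : (Nat.card B).Coprime (Nat.card V)) (hfix : ∀ v, (∀ b ∈ B, b v = v) → v = 1) :
    ∀ W : Subgroup V, (∀ w ∈ W, h w ∈ W) → (∀ b ∈ B, ∀ w ∈ W, b w ∈ W) →
      ∏ b : B, Nat.card ↥(fixSub (h * (b : MulAut V)) ⊓ W) ^ 2 ≤ Nat.card W ^ Nat.card B := by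
  classical
  intro W
  induction W using WellFoundedLT.induction with
  | _ W ih =>
    intro hhW hBW
    rcases eq_or_ne W ⊥ with rfl | hW
    · simp
    obtain ⟨X, hX⟩ := (Set.toFinite {X : Subgroup V | X < W ∧ (∀ w ∈ X, h w ∈ X) ∧
      ∀ b ∈ B, ∀ w ∈ X, b w ∈ X}).exists_maximal ⟨⊥, bot_lt_iff_ne_bot.2 hW,
        fun w hw => by rw [Subgroup.mem_bot] at hw ⊢; rw [hw, map_one],
        fun b _ w hw => by rw [Subgroup.mem_bot] at hw ⊢; rw [hw, map_one]⟩
    obtain ⟨hXW, hhX, hBX⟩ := hX.prop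
    -- an element of `B` moving `W / X`
    obtain ⟨c, hc, w₀, hw₀, hw₀X⟩ : ∃ c ∈ B, ∃ w ∈ W, c w / w ∉ X := by
      by_contra hcon
      push Not at hcon
      obtain ⟨w, hw, hwX⟩ := SetLike.exists_of_lt hXW
      refine hwX ?_
      have h1 : (∏ b : B, (b : MulAut V) w) = 1 := by
        refine hfix _ fun b hb => ?_
        rw [map_prod]
        exact Fintype.prod_equiv (Equiv.mulLeft (⟨b, hb⟩ : B)) _ _ fun a => rfl
      have h2 : (∏ b : B, (b : MulAut V) w / w) ∈ X := prod_mem fun b _ => hcon b b.2 w hw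
      rw [prod_div_distrib, h1, prod_const, card_univ, ← Nat.card_eq_fintype_card, one_div,
        inv_mem_iff] at h2
      obtain ⟨k, hk⟩ := exists_pow_eq_self_of_coprime
        (Nat.Coprime.coprime_dvd_right (orderOf_dvd_natCard w) hco)
      exact hk ▸ pow_mem h2 k
    set cz : ℤ → MulAut V := fun k => h ^ k * c * h ^ (-k) with hcz
    have hczB : ∀ k, cz k ∈ B := fun k => by
      have := (Subgroup.mem_normalizer_iff.1 (zpow_mem hn k) c).1 hc
      rwa [← zpow_neg] at this
    -- the part of `W / X` fixed by the conjugates of `c`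
    let N : Subgroup V :=
      { carrier := {w | w ∈ W ∧ ∀ k, cz k w / w ∈ X}
        one_mem' := ⟨one_mem _, fun k => by simp⟩
        mul_mem' := fun {a b} ha hb => ⟨mul_mem ha.1 hb.1, fun k => by
          rw [map_mul, mul_div_mul_comm]; exact mul_mem (ha.2 k) (hb.2 k)⟩
        inv_mem' := fun {a} ha => ⟨inv_mem ha.1, fun k => by
          rw [map_inv, inv_div_inv, ← inv_div]; exact inv_mem (ha.2 k)⟩ }
    have hNX : N = X := by
      have hXN : X ≤ N := fun x hx => ⟨hXW.le hx, fun k => div_mem (hBX _ (hczB k) x hx) hx⟩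
      refine le_antisymm (hX.le_of_ge ⟨lt_of_le_of_ne (fun w hw => hw.1) fun e => hw₀X ?_, ?_, ?_⟩ hXN) hXN
      · have := ((e.symm ▸ hw₀ : w₀ ∈ N)).2 0
        simpa [hcz] using this
      · rintro w ⟨hw, hk⟩
        refine ⟨hhW w hw, fun k => ?_⟩
        have := hhX _ (hk (k - 1))
        rw [map_div, ← MulAut.mul_apply] at this
        rw [← MulAut.mul_apply]
        have e : h * cz (k - 1) = cz k * h := by
          simp only [hcz]
          group
        rwa [e] at this
      · rintro b hb w ⟨hw, hk⟩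
        refine ⟨hBW b hb w hw, fun k => ?_⟩
        have := hBX b hb _ (hk k)
        rw [map_div, ← MulAut.mul_apply, hB b hb _ (hczB k)] at this
        exact this
    set F : B → Subgroup V := fun b => fixSub (h * (b : MulAut V)) ⊓ W with hF
    have hbr : ∀ b : B, ∀ w ∈ X, (h * (b : MulAut V)) w ∈ X := fun b w hw =>
      hhX _ (hBX _ b.2 w hw)
    have hfX : ∀ b : B, ∀ w ∈ F b ⊔ X, (h * (b : MulAut V)) w / w ∈ X := by
      intro b w hw
      obtain ⟨a, ha, x, hx, rfl⟩ := Subgroup.mem_sup.1 hw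
      rw [map_mul, mem_fixSub.1 ha.1, mul_div_mul_left_eq_div]
      exact div_mem (hbr b x hx) hx
    have key : ∀ b : B, (F b ⊔ X) ⊓ (F (b * ⟨c, hc⟩) ⊔ X) ≤ X := by
      rintro b w ⟨h1, h2⟩
      have hwW : w ∈ W := (sup_le inf_le_right hXW.le : F b ⊔ X ≤ W) h1
      refine hNX.le ⟨hwW, ?_⟩
      set g := h * (b : MulAut V) with hg
      have r1 : g w / w ∈ X := hfX b w h1
      have r2 : g (c w) / w ∈ X := by
        have := hfX _ w h2
        rwa [Subgroup.coe_mul, ← mul_assoc, MulAut.mul_apply] at this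
      have r3 : c w / w ∈ X := by
        refine apply_mem_of_mem (hbr b) ?_
        rw [map_div]
        have := div_mem r2 r1
        rwa [div_div_div_cancel_right] at this
      let T : Subgroup (MulAut V) :=
        { carrier := {f | f w / w ∈ X ∧ ∀ x, f x ∈ X ↔ x ∈ X}
          one_mem' := ⟨by simp, fun x => Iff.rfl⟩
          mul_mem' := fun {a b} ha hb => ⟨by
            have := mul_mem ((ha.2 _).2 hb.1) ha.1
            rwa [map_div, div_mul_div_cancel] at this,
            fun x => (ha.2 _).trans (hb.2 x)⟩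
          inv_mem' := fun {a} ha => ⟨by
            refine (ha.2 _).1 ?_
            rw [map_div, ← MulAut.mul_apply, mul_inv_cancel, MulAut.one_apply, ← inv_div]
            exact inv_mem ha.1, fun x => by
            conv_rhs => rw [show x = a (a⁻¹ x) by rw [← MulAut.mul_apply, mul_inv_cancel, MulAut.one_apply]]
            exact (ha.2 _).symm⟩ }
      have hgT : g ∈ T := ⟨r1, fun x => ⟨apply_mem_of_mem (hbr b), hbr b x⟩⟩
      have hcT : c ∈ T := ⟨r3, fun x => ⟨apply_mem_of_mem (hBX c hc), hBX c hc x⟩⟩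
      intro k
      have e : ∀ k : ℤ, cz k = g ^ k * c * g ^ (-k) := by
        intro k
        induction k using Int.induction_on with
        | zero => simp [hcz]
        | succ i hi =>
          have h' : cz (i + 1) = h * cz i * h⁻¹ := by simp only [hcz]; group
          have h'' : g ^ ((i : ℤ) + 1) * c * g ^ (-((i : ℤ) + 1)) = g * (g ^ (i : ℤ) * c * g ^ (-(i : ℤ))) * g⁻¹ := by
            group
          rw [h', h'', ← hi, hg, mul_assoc h (b : MulAut V), hB _ b.2 _ (hczB i)]
          group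
        | pred i hi =>
          have h' : cz (-(i : ℤ) - 1) = h⁻¹ * cz (-i) * h := by simp only [hcz]; group
          have h'' : g ^ (-(i : ℤ) - 1) * c * g ^ (-(-(i : ℤ) - 1)) =
              g⁻¹ * (g ^ (-(i : ℤ)) * c * g ^ (-(-(i : ℤ)))) * g := by group
          have hm : h⁻¹ * cz (-i) * h ∈ B := h' ▸ hczB _
          rw [h', h'', ← hi, hg]
          calc h⁻¹ * cz (-i) * h = (b : MulAut V)⁻¹ * ((b : MulAut V) * (h⁻¹ * cz (-i) * h)) := by group
            _ = (b : MulAut V)⁻¹ * ((h⁻¹ * cz (-i) * h) * (b : MulAut V)) := by rw [hB _ b.2 _ hm]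
            _ = _ := by group
      rw [e k]
      exact (mul_mem (mul_mem (zpow_mem hgT k) hcT) (zpow_mem hgT (-k))).1
    -- the inequality for a pair
    have pair : ∀ b : B, Nat.card (F b) * Nat.card (F (b * ⟨c, hc⟩)) * Nat.card X ≤
        Nat.card W * (Nat.card ↥(F b ⊓ X) * Nat.card ↥(F (b * ⟨c, hc⟩) ⊓ X)) := by
      intro b
      set A := F b
      set A' := F (b * ⟨c, hc⟩)
      have h1 := card_sup_mul_card_inf A X
      have h2 := card_sup_mul_card_inf A' X
      have h3 := card_sup_mul_card_inf (A ⊔ X) (A' ⊔ X)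
      have h4 : (A ⊔ X) ⊓ (A' ⊔ X) = X := le_antisymm (key b) (le_inf le_sup_right le_sup_right)
      have h5 : Nat.card ↥((A ⊔ X) ⊔ (A' ⊔ X)) ≤ Nat.card W := Subgroup.card_le_of_le
        (sup_le (sup_le inf_le_right hXW.le) (sup_le inf_le_right hXW.le))
      rw [h4] at h3
      refine Nat.le_of_mul_le_mul_right ?_ (Nat.card_pos (α := X))
      calc Nat.card A * Nat.card A' * Nat.card X * Nat.card X
          = (Nat.card A * Nat.card X) * (Nat.card A' * Nat.card X) := by ring
        _ = Nat.card ↥((A ⊔ X) ⊔ (A' ⊔ X)) * Nat.card X *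
              (Nat.card ↥(A ⊓ X) * Nat.card ↥(A' ⊓ X)) := by rw [h3, ← h1, ← h2]; ring
        _ ≤ Nat.card W * (Nat.card ↥(A ⊓ X) * Nat.card ↥(A' ⊓ X)) * Nat.card X := by
            rw [mul_right_comm (Nat.card W)]
            exact Nat.mul_le_mul_right _ (Nat.mul_le_mul_right _ h5)
    have hprod := prod_le_prod' (s := univ) fun b _ => pair b
    simp only [prod_mul_distrib, prod_const, card_univ, ← Nat.card_eq_fintype_card] at hprod
    have hperm : ∀ f : B → ℕ, ∏ b, f (b * ⟨c, hc⟩) = ∏ b, f b := fun f =>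
      Equiv.prod_comp (Equiv.mulRight (⟨c, hc⟩ : B)) f
    rw [hperm fun b => Nat.card (F b), hperm fun b => Nat.card ↥(F b ⊓ X)] at hprod
    have hFX : ∀ b : B, F b ⊓ X = fixSub (h * (b : MulAut V)) ⊓ X := fun b => by
      simp only [hF]
      rw [inf_assoc, inf_eq_right.2 hXW.le]
    have hih := ih X hXW hhX hBX
    simp only [← hFX, sq, prod_mul_distrib] at hih
    simp only [sq, prod_mul_distrib]
    refine Nat.le_of_mul_le_mul_right ?_ (pow_pos (Nat.card_pos (α := X)) (Nat.card B))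
    exact hprod.trans (Nat.mul_le_mul_left _ hih)

/-- A solvable group acting nontrivially and irreducibly: the average of the fixed points. -/
theorem fix_prod_le [Finite V] {p : ℕ} [Fact p.Prime] {k : ℕ} (hV : Nat.card V = p ^ k)
    (H : Subgroup (MulAut V)) [Fintype H] [Group.IsSolvable H] (hne : H ≠ ⊥)
    (hirr : ∀ W : Subgroup V, (∀ h ∈ H, ∀ w ∈ W, h w ∈ W) → W = ⊥ ∨ W = ⊤) :
    ∏ h : H, Nat.card (fixSub (h : MulAut V)) ^ 2 ≤ Nat.card V ^ Nat.card H := by
  classical
  -- a nontrivial normal abelian subgroup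
  obtain ⟨A, hAn, hA1, hAc⟩ : ∃ A : Subgroup H, A.Normal ∧ A ≠ ⊥ ∧ ⁅A, A⁆ = ⊥ := by
    obtain ⟨n, hn⟩ := (Group.isSolvable_def H).1 inferInstance
    have h0 : derivedSeries H 0 ≠ ⊥ := by
      rw [derivedSeries_zero]
      intro e
      refine hne (Subgroup.eq_bot_iff_forall _ |>.2 fun x hx => ?_)
      have : (⟨x, hx⟩ : H) ∈ (⊤ : Subgroup H) := trivial
      rw [e, Subgroup.mem_bot] at this
      exact congrArg Subtype.val this
    have hex : ∃ n, derivedSeries H n = ⊥ := ⟨n, hn⟩
    let m := Nat.find hex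
    have hm : derivedSeries H m = ⊥ := Nat.find_spec hex
    have hm0 : m ≠ 0 := fun e => h0 (e ▸ hm)
    refine ⟨derivedSeries H (m - 1), derivedSeries_normal H _, Nat.find_min hex (show m - 1 < m by omega), ?_⟩
    rw [← derivedSeries_succ, Nat.sub_add_cancel (Nat.one_le_iff_ne_zero.2 hm0)]
    exact hm
  set B := A.map H.subtype with hBdef
  have hBH : B ≤ H := Subgroup.map_subtype_le A
  have hB : ∀ b ∈ B, ∀ b' ∈ B, b * b' = b' * b := by
    rintro _ ⟨a, ha, rfl⟩ _ ⟨a', ha', rfl⟩
    have := Subgroup.commutator_mem_commutator ha ha'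
    rw [hAc, Subgroup.mem_bot, commutatorElement_eq_one_iff_mul_comm] at this
    exact congrArg Subtype.val this
  have hBn : ∀ h ∈ H, ∀ b ∈ B, h * b * h⁻¹ ∈ B := by
    rintro h hh _ ⟨a, ha, rfl⟩
    exact ⟨⟨h, hh⟩ * a * ⟨h, hh⟩⁻¹, hAn.conj_mem a ha _, rfl⟩
  have hN : ∀ h ∈ H, h ∈ Subgroup.normalizer (B : Set (MulAut V)) := fun h hh =>
    Subgroup.mem_normalizer_iff.2 fun b => ⟨hBn h hh b, fun hb => by
      have := hBn h⁻¹ (inv_mem hh) _ hb
      rwa [inv_inv, show h⁻¹ * (h * b * h⁻¹) * h = b by group] at this⟩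
  have hB1 : B ≠ ⊥ := fun e => hA1 ((Subgroup.map_eq_bot_iff_of_injective _ H.subtype_injective).1 e)
  have hfixed : ∀ D : Subgroup (MulAut V), D ≤ H → D ≠ ⊥ → (∀ h ∈ H, ∀ d ∈ D, h * d * h⁻¹ ∈ D) →
      ∀ v, (∀ d ∈ D, d v = v) → v = 1 := by
    intro D hDH hD1 hDn
    let W : Subgroup V :=
      { carrier := {v | ∀ d ∈ D, d v = v}
        one_mem' := fun d _ => map_one d
        mul_mem' := fun ha hb d hd => by rw [map_mul, ha d hd, hb d hd]
        inv_mem' := fun ha d hd => by rw [map_inv, ha d hd] }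
    rcases hirr W fun h hh w hw d hd => by
      have := congrArg h (hw _ (hDn h⁻¹ (inv_mem hh) d hd))
      rw [← MulAut.mul_apply, show h * (h⁻¹ * d * h⁻¹⁻¹) = d * h by group, MulAut.mul_apply] at this
      exact this with hW | hW
    · intro v hv
      have : v ∈ W := hv
      rwa [hW, Subgroup.mem_bot] at this
    · exfalso
      refine hD1 (Subgroup.eq_bot_iff_forall _ |>.2 fun d hd => MulEquiv.ext fun v => ?_)
      have : v ∈ W := by rw [hW]; trivial
      exact this d hd
  haveI : Fintype B := Fintype.ofFinite _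
  have hk0 : k ≠ 0 := by
    rintro rfl
    rw [pow_zero] at hV
    haveI : Subsingleton V := (Nat.card_eq_one_iff_unique.1 hV).1
    exact hne (Subgroup.eq_bot_iff_forall _ |>.2 fun f _ => MulEquiv.ext fun v => Subsingleton.elim _ _)
  have hco : (Nat.card B).Coprime (Nat.card V) := by
    rw [hV]
    refine Nat.Coprime.pow_right k ((Nat.Prime.coprime_iff_not_dvd Fact.out).2 fun hd => ?_).symm
    let D : Subgroup (MulAut V) :=
      { carrier := {b | b ∈ B ∧ b ^ p = 1}
        one_mem' := ⟨one_mem _, one_pow _⟩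
        mul_mem' := fun ha hb => ⟨mul_mem ha.1 hb.1, by
          rw [(show Commute _ _ from hB _ ha.1 _ hb.1).mul_pow, ha.2, hb.2, one_mul]⟩
        inv_mem' := fun ha => ⟨inv_mem ha.1, by rw [inv_pow, ha.2, inv_one]⟩ }
    obtain ⟨⟨x, hx⟩, ho⟩ := exists_prime_orderOf_dvd_card' p hd
    rw [Subgroup.orderOf_mk] at ho
    have hxD : x ∈ D := ⟨hx, ho ▸ pow_orderOf_eq_one x⟩
    have hD1 : D ≠ ⊥ := fun e => by
      rw [e, Subgroup.mem_bot] at hxD
      rw [hxD, orderOf_one] at ho
      exact (Fact.out : p.Prime).ne_one ho.symm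
    have hpD : IsPGroup p D := fun d => ⟨1, Subtype.ext (by simpa using d.2.2)⟩
    have hdvd : p ∣ Nat.card V := hV ▸ dvd_pow_self p hk0
    obtain ⟨v, hv, hv1⟩ := hpD.exists_fixed_point_of_prime_dvd_card_of_fixed_point (α := V) hdvd
      (a := 1) fun d => map_one (d : MulAut V)
    refine hv1 (hfixed D (fun d hd => hBH hd.1) hD1 (fun h hh d hd => ⟨hBn h hh d hd.1, ?_⟩) v
      fun d hd => hv ⟨d, hd⟩).symm
    rw [conj_pow, hd.2, mul_one, mul_inv_cancel]
  have hcoset : ∀ h : H, ∏ b : B, Nat.card (fixSub ((h : MulAut V) * (b : MulAut V))) ^ 2 ≤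
      Nat.card V ^ Nat.card B := by
    intro h
    have := coset_bound B hB (h : MulAut V) (hN h h.2) hco (hfixed B hBH hB1 hBn) ⊤
      (fun _ _ => trivial) (fun _ _ _ _ => trivial)
    simpa using this
  refine Nat.pow_le_pow_iff_left (Nat.card_pos (α := B)).ne' |>.1 ?_
  calc (∏ h : H, Nat.card (fixSub (h : MulAut V)) ^ 2) ^ Nat.card B
      = ∏ b : B, ∏ h : H, Nat.card (fixSub ((h : MulAut V) * (b : MulAut V))) ^ 2 := by
        rw [Nat.card_eq_fintype_card (α := B), ← card_univ, ← prod_const]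
        refine prod_congr rfl fun b _ => ?_
        exact (Fintype.prod_equiv (Equiv.mulRight (⟨b, hBH b.2⟩ : H)) _ _ fun h => rfl).symm
    _ = ∏ h : H, ∏ b : B, Nat.card (fixSub ((h : MulAut V) * (b : MulAut V))) ^ 2 := prod_comm
    _ ≤ ∏ _h : H, Nat.card V ^ Nat.card B := prod_le_prod' fun h _ => hcoset h
    _ = (Nat.card V ^ Nat.card H) ^ Nat.card B := by
        rw [prod_const, card_univ, ← Nat.card_eq_fintype_card, ← pow_mul, ← pow_mul, mul_comm]

end Cfsg.Agent.H10
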