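import Cfsg.Agent.Frobenius.HigmanBound
import Cfsg.Agent.H10.FixAverage
import Cfsg.Agent.S3780
import Cfsg.Agent.S3781

/-!
# `p`-groups with an automorphism of order `p` and few fixed points

Alperin's theorem for `p`-groups: the layers of the lower central series beyond the Higman bound have
bounded exponent and rank, so bounded order; then a deep term of the series has bounded class.
-/

set_option autoImplicit false
set_option linter.style.haveILetI false

namespace Cfsg.Agent.H10.AlmostRegular

open Subgroup Finset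
open scoped TensorProduct DirectSum
open Cfsg.Agent.Frobenius Cfsg.Agent.Frobenius.Higman

universe u

/-- The Higman bound. -/
def xi (p : ℕ) : ℕ := ∑ i ∈ range (2 ^ (p - 1) - 1), (p - 1) ^ i

/-- Fixed points of a quotient are at most as many as those of the group. -/
theorem card_fix_quot_le {X Y : Type*} [Group X] [Finite X] [Group Y] (π : X →* Y)
    (hπ : Function.Surjective π) (a : X ≃* X) (b : Y → Y) (hab : ∀ x, π (a x) = b (π x)) :
    Nat.card {y // b y = y} ≤ Nat.card {x // a x = x} := by
  classical
  haveI : Finite Y := Finite.of_surjective π hπ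
  choose s hs using hπ
  let T : Set X := {x | b (π x) = π x}
  let e : T ≃ {y // b y = y} × π.ker :=
    { toFun := fun x => (⟨π x.1, x.2⟩, ⟨(s (π x.1))⁻¹ * x.1, by simp [MonoidHom.mem_ker, hs]⟩)
      invFun := fun z => ⟨s z.1.1 * z.2.1, by
        show b (π _) = π _
        rw [map_mul, hs, z.2.2, mul_one]
        exact z.1.2⟩
      left_inv := fun x => Subtype.ext (by simp)
      right_inv := fun z => by
        have hz : π (s z.1.1 * z.2.1) = z.1.1 := by rw [map_mul, hs, z.2.2, mul_one]
        refine Prod.ext (Subtype.ext hz) (Subtype.ext ?_)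
        show (s (π (s z.1.1 * z.2.1)))⁻¹ * (s z.1.1 * z.2.1) = z.2.1
        rw [hz, inv_mul_cancel_left] }
  let d : T → π.ker := fun x => ⟨x.1⁻¹ * a x.1, by
    rw [MonoidHom.mem_ker, map_mul, map_inv, hab, x.2, inv_mul_cancel]⟩
  haveI := Fintype.ofFinite T
  haveI := Fintype.ofFinite π.ker
  have hle : Nat.card T ≤ Nat.card {x // a x = x} * Nat.card π.ker := by
    rw [Nat.card_eq_fintype_card, Nat.card_eq_fintype_card (α := π.ker), ← card_univ, ← card_univ]
    refine card_le_mul_card_image_of_maps_to (f := d) (fun _ _ => mem_univ _) _ fun k _ => ?_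
    rw [← Fintype.card_subtype, ← Nat.card_eq_fintype_card]
    rcases isEmpty_or_nonempty {x : T // d x = k} with h | ⟨⟨x₀, hx₀⟩⟩
    · simp
    refine Nat.card_le_card_of_injective (fun x : {x : T // d x = k} =>
      (⟨x.1.1 * x₀.1⁻¹, ?_⟩ : {x // a x = x})) ?_
    · have h : x.1.1⁻¹ * a x.1.1 = x₀.1⁻¹ * a x₀.1 :=
        congrArg Subtype.val (x.2.trans hx₀.symm)
      rw [inv_mul_eq_iff_eq_mul] at h
      rw [map_mul, map_inv, h]
      group
    · intro x y h
      exact Subtype.ext (Subtype.ext (mul_right_cancel (congrArg Subtype.val h :)))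
  rw [Nat.card_congr e, Nat.card_prod] at hle
  exact Nat.le_of_mul_le_mul_right hle Nat.card_pos

/-- An abelian group generated by `k` elements, of exponent dividing `e`. -/
theorem card_le_of_gen {V : Type*} [CommGroup V] [Finite V] {e : ℕ} (he : 0 < e)
    (h : ∀ x : V, x ^ e = 1) (S : Finset V) :
    Nat.card (Subgroup.closure (S : Set V)) ≤ e ^ S.card := by
  classical
  induction S using Finset.induction with
  | empty => simp
  | insert a S ha ih =>
    rw [coe_insert, Set.insert_eq, Subgroup.closure_union, ← zpowers_eq_closure,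
      card_insert_of_notMem ha, pow_succ']
    calc Nat.card ↥(zpowers a ⊔ Subgroup.closure (S : Set V))
        ≤ Nat.card ↥(zpowers a ⊔ Subgroup.closure (S : Set V)) *
            Nat.card ↥(zpowers a ⊓ Subgroup.closure (S : Set V)) :=
          Nat.le_mul_of_pos_right _ Nat.card_pos
      _ = Nat.card (zpowers a) * Nat.card (Subgroup.closure (S : Set V)) := card_sup_mul_card_inf _ _
      _ ≤ e * e ^ S.card :=
          Nat.mul_le_mul ((Nat.card_zpowers a).trans_le (orderOf_le_of_pow_eq_one he (h a))) ih

/-- Products of elements of the span of a grading vanish beyond the class. -/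
theorem foldl_eq_zero {M : Type*} [LieRing M] {p : ℕ} {C : ZMod p → AddSubgroup M} {c : ℕ}
    (h : GradedLie.ClassLE C 0 c) (x : M) (hx : x ∈ ⨆ i, C i) (ys : List M)
    (hys : ∀ y ∈ ys, y ∈ ⨆ i, C i) (hlen : ys.length = c) :
    ys.foldl (fun z y => ⁅z, y⁆) x = 0 := by
  let H : ℕ → AddSubgroup M := fun r => AddSubgroup.closure
    {z | ∃ (i : ZMod p) (a : M) (l : List (ZMod p × M)),
      a ∈ C i ∧ (∀ y ∈ l, y.2 ∈ C y.1) ∧ l.length = r ∧ GradedLie.lb a l = z}
  have h0 : x ∈ H 0 := by
    refine AddSubgroup.iSup_induction C (C := fun z => z ∈ H 0) hx (fun i a ha => ?_)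
      (zero_mem _) (fun a b ha hb => add_mem ha hb)
    exact AddSubgroup.subset_closure ⟨i, a, [], ha, by simp, rfl, rfl⟩
  have hstep : ∀ (r : ℕ) (z : M), z ∈ H r → ∀ y ∈ ⨆ i, C i, ⁅z, y⁆ ∈ H (r + 1) := by
    intro r z hz y hy
    refine AddSubgroup.iSup_induction C (C := fun w => ⁅z, w⁆ ∈ H (r + 1)) hy
      (fun j b hb => ?_) (by simp) (fun a b ha hb => by rw [lie_add]; exact add_mem ha hb)
    induction hz using AddSubgroup.closure_induction with
    | mem v hv =>
      obtain ⟨i, a, l, ha, hl, hlr, rfl⟩ := hv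
      refine AddSubgroup.subset_closure ⟨i, a, l ++ [(j, b)], ha, ?_, by simp [hlr], ?_⟩
      · intro w hw
        rcases List.mem_append.1 hw with hw | hw
        · exact hl w hw
        · rw [List.mem_singleton.1 hw]; exact hb
      · rw [GradedLie.lb_append]; rfl
    | zero => simp
    | add v w _ _ hv hw => rw [add_lie]; exact add_mem hv hw
    | neg v _ hv => rw [neg_lie]; exact neg_mem hv
  have hfold : ∀ (ys : List M), (∀ y ∈ ys, y ∈ ⨆ i, C i) → ∀ (r : ℕ) (z : M), z ∈ H r →
      ys.foldl (fun z y => ⁅z, y⁆) z ∈ H (r + ys.length) := by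
    intro ys
    induction ys with
    | nil => exact fun _ r z hz => hz
    | cons y ys ih =>
      intro hm r z hz
      have := ih (fun w hw => hm w (List.mem_cons_of_mem _ hw)) (r + 1) _
        (hstep r z hz y (hm y List.mem_cons_self))
      simpa [Nat.add_assoc, Nat.add_comm 1] using this
  have hmem := hfold ys hys 0 x h0
  rw [Nat.zero_add, hlen] at hmem
  revert hmem
  generalize ys.foldl (fun z y => ⁅z, y⁆) x = w
  intro hmem
  induction hmem using AddSubgroup.closure_induction with
  | mem v hv =>
    obtain ⟨i, a, l, ha, hl, hlr, rfl⟩ := hv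
    exact h i a ha l hl hlr
  | zero => rfl
  | add v w _ _ hv hw => rw [hv, hw, add_zero]
  | neg v _ hv => rw [hv, neg_zero]

theorem foldl_nsmul {M : Type*} [LieRing M] (s : ℕ) : ∀ (ys : List M) (a : ℕ) (x : M),
    (ys.map fun y => s • y).foldl (fun z y => ⁅z, y⁆) (a • x) =
      (a * s ^ ys.length) • ys.foldl (fun z y => ⁅z, y⁆) x := by
  intro ys
  induction ys with
  | nil => simp
  | cons y ys ih =>
    intro a x
    simp only [List.map_cons, List.foldl_cons, List.length_cons, nsmul_lie, lie_nsmul, smul_smul]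
    rw [ih, pow_succ', ← mul_assoc, mul_comm s a]

/-- A scalar annihilates a longer product once it annihilates an initial one. -/
theorem foldl_nsmul_zero {M : Type*} [LieRing M] (s : ℕ) : ∀ (ys : List M) (x : M), s • x = 0 →
    s • ys.foldl (fun z y => ⁅z, y⁆) x = 0 := by
  intro ys
  induction ys with
  | nil => exact fun x hx => hx
  | cons y ys ih => exact fun x hx => ih _ (by rw [← nsmul_lie, hx, zero_lie])

variable {G : Type u} [Group G] [Finite G] (α : G ≃* G)

/-- The automorphism of a layer. -/
noncomputable def qMap (k : ℕ) : LCS.Q G k →* LCS.Q G k :=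
  QuotientGroup.map _ _ (restrictEquiv α (LCS.term G k) (map_term α k)).toMonoidHom
    (fun _ hg => Subgroup.mem_comap.2 (Subgroup.mem_subgroupOf.2
      (apply_mem_term α (Subgroup.mem_subgroupOf.1 hg))))

theorem qMap_mk (k : ℕ) (g : LCS.term G k) :
    qMap α k (g : LCS.Q G k) = ((restrictEquiv α (LCS.term G k) (map_term α k) g : LCS.term G k) :
      LCS.Q G k) := rfl

theorem card_fix_layer (k : ℕ) :
    Nat.card {q : LCS.Q G k // qMap α k q = q} ≤ Nat.card {g : G // α g = g} := by
  refine (card_fix_quot_le (QuotientGroup.mk' _) (QuotientGroup.mk'_surjective _)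
    (restrictEquiv α (LCS.term G k) (map_term α k)) (qMap α k) fun g => rfl).trans ?_
  exact Nat.card_le_card_of_injective
    (fun g => (⟨(g.1 : G), congrArg Subtype.val g.2⟩ : {g : G // α g = g}))
    fun a b h => Subtype.ext (Subtype.ext (congrArg Subtype.val h :))

variable (p : ℕ) [hp : Fact p.Prime] {n : ℕ}

theorem lie_fix_torsion (hP : IsPGroup p G) (hfix : Nat.card {g : G // α g = g} ≤ p ^ n)
    {x : LCS.L G} (hx : lieMap α x = x) : p ^ n • x = 0 := by
  ext k
  have hk : layerMap α k (x k) = x k := by
    conv_rhs => rw [← hx]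
    rfl
  rw [DirectSum.zero_apply, show (p ^ n • x) k = p ^ n • x k from rfl]
  let S : Subgroup (LCS.Q G k) := MonoidHom.eqLocus (qMap α k) (MonoidHom.id _)
  obtain ⟨j, hj⟩ := IsPGroup.iff_card.1
    (((hP.to_subgroup (LCS.term G k)).to_quotient _).to_subgroup S)
  have hle : p ^ j ≤ p ^ n := hj ▸ (card_fix_layer α k).trans hfix
  have hmem : (x k).toMul ∈ S := congrArg Additive.toMul hk
  have h1 : (⟨_, hmem⟩ : S) ^ Nat.card S = 1 := pow_card_eq_one'
  have h2 : (x k).toMul ^ p ^ j = 1 := by
    rw [← hj]
    exact congrArg Subtype.val h1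
  obtain ⟨i, hi⟩ : p ^ j ∣ p ^ n :=
    pow_dvd_pow p ((Nat.pow_le_pow_iff_right hp.out.one_lt).1 hle)
  refine Additive.toMul.injective ?_
  rw [toMul_nsmul, toMul_zero, hi, pow_mul, h2, one_pow]

open Classical in
theorem fix_torsion (hP : IsPGroup p G) (hfix : Nat.card {g : G // α g = g} ≤ p ^ n)
    {x : M p G} (hx : mMap α p x = x) : p ^ n • x = 0 := by
  obtain ⟨ι, b, -, -⟩ := basis_exists p
  have key : ∀ (z : M p G) (i : ι), TensorProduct.equivFinsuppOfBasisLeft b (mMap α p z) i =
      lieMap α (TensorProduct.equivFinsuppOfBasisLeft b z i) := by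
    intro z i
    induction z using TensorProduct.induction_on with
    | zero => simp
    | tmul r y =>
      rw [mMap_tmul, TensorProduct.equivFinsuppOfBasisLeft_apply_tmul_apply,
        TensorProduct.equivFinsuppOfBasisLeft_apply_tmul_apply, map_zsmul]
    | add v w hv hw => simp [hv, hw]
  refine (TensorProduct.equivFinsuppOfBasisLeft b).injective ?_
  rw [map_zero, map_nsmul]
  ext i : 1
  rw [Finsupp.smul_apply, Finsupp.zero_apply]
  exact lie_fix_torsion α p hP hfix (by rw [← key, hx])

/-- Exponent of the layers beyond the Higman bound. -/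
theorem pow_mem_term (hP : IsPGroup p G) (hpow : ∀ g, α^[p] g = g)
    (hfix : Nat.card {g : G // α g = g} ≤ p ^ n) {k : ℕ} (hk : xi p ≤ k) {g : G}
    (hg : g ∈ LCS.term G k) : g ^ p ^ ((n + 1) * (xi p + 1)) ∈ LCS.term G (k + 1) := by
  set C : ZMod p → AddSubgroup (M p G) := fun i =>
    (eig α p i).map (nsmulAddMonoidHom (p ^ n)) with hCdef
  have hC : GradedLie.IsGrading C := by
    refine ⟨eq_bot_iff.2 ?_, ?_⟩
    · rintro _ ⟨x, hx, rfl⟩
      exact AddSubgroup.mem_bot.2 (fix_torsion α p hP hfix
        (by rw [show mMap α p x = w p 0 • x from hx, w_zero, one_smul]))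
    · rintro i j _ _ ⟨a, ha, rfl⟩ ⟨b, hb, rfl⟩
      refine ⟨p ^ n • ⁅a, b⁆, AddSubgroup.nsmul_mem _ ?_ _, ?_⟩
      · change mMap α p ⁅a, b⁆ = w p (i + j) • ⁅a, b⁆
        rw [mMap_lie, show mMap α p a = w p i • a from ha, show mMap α p b = w p j • b from hb,
          m_lie_smul, m_smul_lie, smul_smul, w_add, mul_comm]
      · simp only [nsmulAddMonoidHom_apply, nsmul_lie, lie_nsmul, smul_smul]
  have hspan : ∀ x : M p G, p ^ (n + 1) • x ∈ ⨆ i, C i := by
    intro x
    let E : ZMod p → M p G := fun i => ∑ j : ZMod p, w p (-(i * j)) • mPow α p j x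
    have hE : ∀ i, E i ∈ eig α p i := fun i => by
      change mMap α p (E i) = w p i • E i
      simp only [E, map_sum, map_smul, mPow_succ α p hpow, Finset.smul_sum]
      refine Fintype.sum_equiv (Equiv.addRight (1 : ZMod p)) _ _ fun j => ?_
      rw [Equiv.coe_addRight, smul_smul (w p i), ← w_add]
      congr 2
      ring
    have hsum : ∑ i, E i = p • x := by
      simp only [E]
      rw [Finset.sum_comm]
      simp only [← Finset.sum_smul]
      rw [Finset.sum_eq_single (0 : ZMod p) (fun j _ hj => by rw [sum_w_mul p hj, zero_smul]) (by simp)]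
      simp only [mul_zero, neg_zero, w_zero, Finset.sum_const, Finset.card_univ, ZMod.card, mPow,
        ZMod.val_zero, pow_zero, Module.End.one_apply, nsmul_one, Nat.cast_smul_eq_nsmul]
    rw [pow_succ, mul_smul, ← hsum, Finset.smul_sum]
    exact sum_mem fun i _ => AddSubgroup.mem_iSup_of_mem i ⟨E i, hE i, rfl⟩
  have hclass : GradedLie.ClassLE C 0 (xi p) := GradedLie.classLE_xi hC
  set N := p ^ ((n + 1) * (xi p + 1)) with hN
  have hL : N • LCS.el k g = 0 := by
    have h := LCS.el_mem_closure k g hg
    revert h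
    generalize LCS.el k g = z
    intro h
    induction h using AddSubgroup.closure_induction with
    | mem z hz =>
      obtain ⟨x, ys, hlen, rfl⟩ := hz
      refine one_tmul_eq_zero p ?_
      rw [TensorProduct.tmul_smul]
      have hfold : ∀ (l : List (LCS.L G)) (a : LCS.L G),
          (1 : R p) ⊗ₜ[ℤ] l.foldl (fun z y => ⁅z, y⁆) a =
            (l.map fun y => (1 : R p) ⊗ₜ[ℤ] y).foldl (fun z y => ⁅z, y⁆) ((1 : R p) ⊗ₜ[ℤ] a) := by
        intro l
        induction l with
        | nil => simp
        | cons b l ih =>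
          intro a
          simp only [List.foldl_cons, List.map_cons, ih, LieAlgebra.ExtendScalars.bracket_tmul,
            mul_one]
      rw [hfold]
      generalize hl : (List.map (fun y => (1 : R p) ⊗ₜ[ℤ] y) (ys.map (LCS.el 0))) = l
      have hlk : l.length = k := by rw [← hl]; simp [hlen]
      rw [← List.take_append_drop (xi p) l, List.foldl_append]
      refine foldl_nsmul_zero _ _ _ ?_
      have hz := foldl_eq_zero hclass (p ^ (n + 1) • ((1 : R p) ⊗ₜ[ℤ] LCS.el 0 x)) (hspan _)
        ((l.take (xi p)).map fun y => p ^ (n + 1) • y)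
        (fun y hy => by obtain ⟨y, -, rfl⟩ := List.mem_map.1 hy; exact hspan y)
        (by rw [List.length_map, List.length_take]; omega)
      rw [foldl_nsmul, List.length_take, min_eq_left (by omega), ← pow_mul, ← pow_add] at hz
      rw [hN, show (n + 1) * (xi p + 1) = n + 1 + (n + 1) * xi p by ring]
      exact hz
    | zero => rw [smul_zero]
    | add a b _ _ ha hb => rw [smul_add, ha, hb, add_zero]
    | neg a _ ha => rw [smul_neg, ha, neg_zero]
  refine (LCS.el_eq_zero_iff (pow_mem hg N)).1 ?_
  rw [← hL]
  clear hL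
  induction N with
  | zero => rw [pow_zero, zero_smul, LCS.el_one]
  | succ i ih => rw [pow_succ, LCS.el_mul (pow_mem hg i) hg, ih, succ_nsmul]

/-- The bound on a layer. -/
def layerBound (p n : ℕ) : ℕ := (n + 1) * (xi p + 1) * (p * n) + n

/-- Order of the layers beyond the Higman bound. -/
theorem relIndex_term_le (hP : IsPGroup p G) (hpow : ∀ g, α^[p] g = g)
    (hfix : Nat.card {g : G // α g = g} ≤ p ^ n) {k : ℕ} (hk : xi p ≤ k) :
    (LCS.term G (k + 1)).relIndex (LCS.term G k) ≤ p ^ layerBound p n := by
  have hQ : IsPGroup p (LCS.Q G k) := (hP.to_subgroup (LCS.term G k)).to_quotient _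
  show Subgroup.index _ ≤ _
  rw [Subgroup.index_eq_card]
  have hsurj : Function.Surjective (qMap α k) := fun q => by
    induction q using QuotientGroup.induction_on with
    | H g =>
      exact ⟨(((restrictEquiv α (LCS.term G k) (map_term α k)).symm g : LCS.term G k) : LCS.Q G k),
        by rw [qMap_mk, MulEquiv.apply_symm_apply]⟩
  let a : MulAut (LCS.Q G k) :=
    MulEquiv.ofBijective (qMap α k) ⟨Finite.injective_iff_surjective.2 hsurj, hsurj⟩
  have hiter : ∀ (j : ℕ) (g : LCS.term G k), ∃ h : α^[j] (g : G) ∈ LCS.term G k,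
      (a ^ j) (g : LCS.Q G k) = ((⟨α^[j] (g : G), h⟩ : LCS.term G k) : LCS.Q G k) := by
    intro j
    induction j with
    | zero => exact fun g => ⟨g.2, rfl⟩
    | succ j ih =>
      intro g
      obtain ⟨h, e⟩ := ih g
      refine ⟨by rw [Function.iterate_succ_apply']; exact apply_mem_term α h, ?_⟩
      rw [pow_succ', MulAut.mul_apply, e]
      refine (qMap_mk α k ⟨α^[j] (g : G), h⟩).trans ?_
      exact congrArg _ (Subtype.ext (Function.iterate_succ_apply' α j _).symm)
  have hap : a ^ p = 1 := by
    refine MulEquiv.ext fun q => ?_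
    induction q using QuotientGroup.induction_on with
    | H g =>
      obtain ⟨h, e⟩ := hiter p g
      rw [e]
      exact congrArg _ (Subtype.ext (hpow g))
  have hfa : Nat.card {q : LCS.Q G k // a q = q} ≤ p ^ n := (card_fix_layer α k).trans hfix
  rcases hp.out.eq_one_or_self_of_dvd _ (orderOf_dvd_of_pow_eq_one hap) with h1 | hord
  · refine le_trans ?_ (hfa.trans (Nat.pow_le_pow_right hp.out.pos (Nat.le_add_left _ _)))
    rw [orderOf_eq_one_iff] at h1
    exact Nat.card_le_card_of_injective (fun q => ⟨q, by rw [h1]; rfl⟩)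
      fun q q' h => congrArg Subtype.val h
  · let S : Subgroup (LCS.Q G k) := MonoidHom.eqLocus a.toMonoidHom (MonoidHom.id _)
    obtain ⟨j, hj⟩ := IsPGroup.iff_card.1 (hQ.to_subgroup S)
    have hjn : j ≤ n := (Nat.pow_le_pow_iff_right hp.out.one_lt).1 (hj ▸ hfa)
    obtain ⟨T, hT, hTgen⟩ := S3780.result hQ a hord j hj
    have hexp : ∀ q : LCS.Q G k, q ^ p ^ ((n + 1) * (xi p + 1)) = 1 := by
      intro q
      induction q using QuotientGroup.induction_on with
      | H g =>
        rw [← QuotientGroup.mk_pow, QuotientGroup.eq_one_iff, Subgroup.mem_subgroupOf,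
          SubgroupClass.coe_pow]
        exact pow_mem_term α p hP hpow hfix hk g.2
    have := card_le_of_gen (pow_pos hp.out.pos _) hexp T
    rw [hTgen, Subgroup.card_top] at this
    refine this.trans ?_
    rw [← pow_mul]
    refine Nat.pow_le_pow_right hp.out.pos ?_
    exact (Nat.mul_le_mul_left _ (hT.trans (Nat.mul_le_mul_left _ hjn))).trans (Nat.le_add_right _ _)

omit [Finite G] hp in
/-- Derived series of the whole group and of a subgroup containing a term. -/
theorem derivedSeries_add_le (N : Subgroup G) {a : ℕ} (ha : derivedSeries G a ≤ N) :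
    ∀ b, derivedSeries G (a + b) ≤ (derivedSeries N b).map N.subtype := by
  intro b
  induction b with
  | zero => rwa [Nat.add_zero, derivedSeries_zero, ← MonoidHom.range_eq_map, Subgroup.range_subtype]
  | succ b ih =>
    rw [← Nat.add_assoc, derivedSeries_succ, derivedSeries_succ, Subgroup.map_commutator]
    exact Subgroup.commutator_mono ih ih

/-- **Alperin**: the derived length of a `p`-group with an automorphism of order `p` with at most
`p ^ n` fixed points is bounded. -/
theorem derivedSeries_eq_bot (hP : IsPGroup p G) (hpow : ∀ g, α^[p] g = g)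
    (hfix : Nat.card {g : G // α g = g} ≤ p ^ n) :
    derivedSeries G (layerBound p n + (xi p + 2)) = ⊥ := by
  set m := layerBound p n
  set N : Subgroup G := LCS.term G m with hNdef
  have hder : ∀ (X : Type u) [Group X] (j : ℕ),
      derivedSeries X j ≤ (⊤ : Subgroup X).lowerCentralSeries j := by
    intro X _ j
    induction j with
    | zero => simp
    | succ j ih =>
      rw [derivedSeries_succ, Subgroup.lowerCentralSeries_succ]
      exact Subgroup.commutator_mono ih le_top
  haveI : Finite N := inferInstance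
  set β : N ≃* N := restrictEquiv α N (map_term α m) with hβ
  have hβpow : ∀ x : N, β^[p] x = x := fun x => Subtype.ext (by
    have e : ∀ j, ((β^[j] x : N) : G) = α^[j] (x : G) := by
      intro j
      induction j with
      | zero => rfl
      | succ j ih =>
        rw [Function.iterate_succ_apply', Function.iterate_succ_apply', ← ih]
        rfl
    rw [e, hpow])
  have hβfix : Nat.card {x : N // β x = x} ≤ p ^ n := le_trans
    (Nat.card_le_card_of_injective
      (fun g => (⟨(g.1 : G), congrArg Subtype.val g.2⟩ : {g : G // α g = g}))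
      fun a b h => Subtype.ext (Subtype.ext (congrArg Subtype.val h :))) hfix
  have hlow : N.lowerCentralSeries (xi p + 2) = ⊥ := by
    by_contra hne
    have h1 := S3781.result hP (m + 1) (Nat.le_add_left 1 m) N (by rw [Nat.add_sub_cancel])
      (xi p + 2) (by omega) hne
    have h2 := relIndex_term_le β p (hP.to_subgroup N) hβpow hβfix (k := xi p + 1) (Nat.le_succ _)
    rw [← Subgroup.relIndex_map_map_of_injective _ _ N.subtype_injective, LCS.term, LCS.term,
      Subgroup.top_subtype_lowerCentralSeries, Subgroup.top_subtype_lowerCentralSeries] at h2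
    have := (Nat.pow_le_pow_iff_right hp.out.one_lt).1 (h1.trans h2)
    omega
  refine eq_bot_iff.2 ((derivedSeries_add_le N (hder G m) _).trans ?_)
  rw [← hlow, ← Subgroup.top_subtype_lowerCentralSeries]
  exact Subgroup.map_mono (hder N _)

end Cfsg.Agent.H10.AlmostRegular
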