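import Cfsg.Agent.H10.AlmostRegular
import Cfsg.Agent.H49.RankTwoEssential
import Cfsg.Agent.Cores.Constrained
import Cfsg.Agent.S0029

/-!
# Alperin's theorem: solvable groups with an automorphism of prime order and few fixed points
-/

set_option autoImplicit false
set_option linter.style.haveILetI false

namespace Cfsg.Agent.H10.Alperin

open Subgroup Finset
open Cfsg.Agent.Frobenius

universe u

variable {p : ℕ} [hp : Fact p.Prime] {n : ℕ}

/-- An elementary abelian quotient of a `p`-group with few fixed points is small. -/
theorem card_elementary_le {R V : Type*} [Group R] [Finite R] [CommGroup V] [Finite V]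
    (π : R →* V) (hπ : Function.Surjective π) (hR : IsPGroup p R) (hV : ∀ v : V, v ^ p = 1)
    (β : R ≃* R) (b : MulAut V) (hab : ∀ x, π (β x) = b (π x)) (hb : b ^ p = 1)
    (hfix : Nat.card {x : R // β x = x} ≤ p ^ n) : Nat.card V ≤ p ^ (p * n) := by
  have hf := (AlmostRegular.card_fix_quot_le π hπ β b hab).trans hfix
  have hVp : IsPGroup p V := IsPGroup.of_surjective hR π hπ
  rcases hp.out.eq_one_or_self_of_dvd _ (orderOf_dvd_of_pow_eq_one hb) with h1 | hord
  · rw [orderOf_eq_one_iff] at h1
    refine le_trans ?_ (hf.trans (Nat.pow_le_pow_right hp.out.pos (Nat.le_mul_of_pos_left _ hp.out.pos)))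
    exact Nat.card_le_card_of_injective (fun q => ⟨q, by rw [h1]; rfl⟩)
      fun q q' h => congrArg Subtype.val h
  · obtain ⟨j, hj⟩ := IsPGroup.iff_card.1 (hVp.to_subgroup (MonoidHom.eqLocus b.toMonoidHom (MonoidHom.id V)))
    have hjn : j ≤ n := (Nat.pow_le_pow_iff_right hp.out.one_lt).1 (hj ▸ hf)
    obtain ⟨T, hT, hgen⟩ := S3780.result hVp b hord j hj
    have h := AlmostRegular.card_le_of_gen hp.out.pos hV T
    rw [hgen, Subgroup.card_top] at h
    exact h.trans (Nat.pow_le_pow_right hp.out.pos (hT.trans (Nat.mul_le_mul_left _ hjn)))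

/-- The derived length of a solvable group is at most its order. -/
theorem derivedSeries_card_eq_bot {X : Type*} [Group X] [Finite X] [Group.IsSolvable X] {M : ℕ}
    (hM : Nat.card X ≤ M) : derivedSeries X M = ⊥ := by
  have h : ∀ i, derivedSeries X i = ⊥ ∨ Nat.card (derivedSeries X i) + i ≤ Nat.card X := by
    intro i
    induction i with
    | zero => exact Or.inr (by simp)
    | succ i ih =>
      rw [derivedSeries_succ]
      by_cases hb : derivedSeries X i = ⊥
      · exact Or.inl (by rw [hb]; simp)
      · rcases ih with h | h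
        · exact absurd h hb
        refine Or.inr ?_
        have hlt := Group.IsSolvable.commutator_lt_of_ne_bot hb
        have : Nat.card ↥⁅derivedSeries X i, derivedSeries X i⁆ < Nat.card (derivedSeries X i) :=
          (Subgroup.card_le_of_le hlt.le).lt_of_ne fun e =>
            hlt.ne (Subgroup.eq_of_le_of_card_ge hlt.le e.ge)
        omega
  rcases h M with h | h
  · exact h
  · exfalso
    have := Nat.card_pos (α := derivedSeries X M)
    omega

/-- The part with trivial `p'`-core. -/
theorem derived_of_core_free {X : Type u} [Group X] [Finite X] [Group.IsSolvable X] (a : X ≃* X)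
    (ha : ∀ x, a^[p] x = x) (hfix : Nat.card {x : X // a x = x} ≤ p ^ n)
    (hO : Cfsg.pPrimeCore p X = ⊥) :
    derivedSeries X ((p ^ (p * n)).factorial +
      (AlmostRegular.layerBound p n + (AlmostRegular.xi p + 2))) = ⊥ := by
  set R := Cfsg.pCore p X with hR
  have hRmap : R.map (a : X →* X) = R := Subgroup.characteristic_iff_map_eq.1 inferInstance a
  set β : R ≃* R := restrictEquiv a R hRmap with hβ
  have hβit : ∀ (j : ℕ) (x : R), ((β^[j] x : R) : X) = a^[j] (x : X) := by
    intro j x
    induction j with
    | zero => rfl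
    | succ j ih =>
      rw [Function.iterate_succ_apply', Function.iterate_succ_apply', ← ih]
      rfl
  have hβp : ∀ x : R, β^[p] x = x := fun x => Subtype.ext (by rw [hβit, ha])
  have hβfix : Nat.card {x : R // β x = x} ≤ p ^ n := le_trans
    (Nat.card_le_card_of_injective
      (fun g => (⟨(g.1 : X), congrArg Subtype.val g.2⟩ : {g : X // a g = g}))
      fun a b h => Subtype.ext (Subtype.ext (congrArg Subtype.val h :))) hfix
  have hRp : IsPGroup p R := Cores.pCore_isPGroup
  have hder := AlmostRegular.derivedSeries_eq_bot β p hRp hβp hβfix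
  -- the Frattini quotient of the core
  letI : CommGroup (R ⧸ frattini R) :=
    { QuotientGroup.Quotient.group (frattini R) with
      mul_comm := fun x y => by
        induction x using QuotientGroup.induction_on with
        | H x =>
        induction y using QuotientGroup.induction_on with
        | H y =>
        refine commutatorElement_eq_one_iff_mul_comm.1 ((QuotientGroup.eq_one_iff _).2 ?_)
        exact PGroups.commutator_le_frattini hRp
          (Subgroup.commutator_mem_commutator (Subgroup.mem_top x) (Subgroup.mem_top y)) }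
  have hV : Nat.card (R ⧸ frattini R) ≤ p ^ (p * n) := by
    refine card_elementary_le (QuotientGroup.mk' (frattini R)) (QuotientGroup.mk'_surjective _) hRp
      (fun v => ?_) β (H49.frattiniQuot R β) (fun x => rfl) ?_ hβfix
    · induction v using QuotientGroup.induction_on with
      | H x => exact (QuotientGroup.eq_one_iff _).2 (PGroups.pow_mem_frattini hRp x)
    · rw [← map_pow, show (β : MulAut R) ^ p = 1 from MulEquiv.ext fun x => ?_, map_one]
      have e : ∀ j, (β^[j] : R → R) = ((β : MulAut R) ^ j : MulAut R) := fun j => by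
        induction j with
        | zero => rfl
        | succ j ih => funext y; rw [Function.iterate_succ_apply', ih, pow_succ']; rfl
      rw [← congrFun (e p) x, hβp]
      rfl
  set φ : X →* MulAut (R ⧸ frattini R) := (H49.frattiniQuot R).comp MulAut.conjNormal with hφ
  -- its kernel is a `p`-group
  have hker : φ.ker ≤ R := by
    have hp' : ∀ x ∈ φ.ker, (orderOf x).Coprime p → x = 1 := by
      intro x hx hco
      have htriv : ∀ y ∈ zpowers x, ∀ k ∈ R, y * k * y⁻¹ * k⁻¹ ∈ (frattini R).map R.subtype := by
        intro y hy k hk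
        have hyk : φ y = 1 := (zpowers_le.2 hx : zpowers x ≤ φ.ker) hy
        have h1 : ((MulAut.conjNormal y ⟨k, hk⟩ : R) : R ⧸ frattini R) = ((⟨k, hk⟩ : R) : R ⧸ frattini R) :=
          DFunLike.congr_fun hyk ((⟨k, hk⟩ : R) : R ⧸ frattini R)
        rw [QuotientGroup.eq_iff_div_mem] at h1
        exact ⟨_, h1, by simp [div_eq_mul_inv]⟩
      have hcop : (Nat.card (zpowers x)).Coprime (Nat.card (frattini R)) := by
        obtain ⟨j, hj⟩ := IsPGroup.iff_card.1 (hRp.to_subgroup (frattini R))
        rw [Nat.card_zpowers, hj]
        exact hco.pow_right j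
      have hc := S0029.result (zpowers x) R
        (fun y _ => by rw [Subgroup.normalizer_eq_top]; trivial) hcop htriv
      have hxR : x ∈ R := Cores.centralizer_pCore_le Cores.isPSolvable_of_isSolvable hO
        (hc (mem_zpowers x))
      obtain ⟨j, hj⟩ := hRp ⟨x, hxR⟩
      have hx1 : x ^ p ^ j = 1 := congrArg Subtype.val hj
      rw [← orderOf_eq_one_iff]
      exact Nat.dvd_one.1 ((hco.pow_right j).eq_one_of_dvd (orderOf_dvd_of_pow_eq_one hx1) ▸ dvd_rfl)
    refine Cores.le_pCore fun x => ?_
    obtain ⟨j, m, hm, he⟩ := Nat.exists_eq_pow_mul_and_not_dvd (orderOf_pos x).ne' p hp.out.ne_one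
    refine ⟨j, Subtype.ext ?_⟩
    have h1 := hp' ((x : X) ^ p ^ j) (pow_mem x.2 _) (by
      have hx : (((x : X) ^ p ^ j)) ^ m = 1 := by
        rw [← pow_mul, ← he, Subgroup.orderOf_coe x |>.symm, pow_orderOf_eq_one]
      exact (hp.out.coprime_iff_not_dvd.2 hm).symm.coprime_dvd_left (orderOf_dvd_of_pow_eq_one hx))
    simpa using h1
  haveI : Finite (MulAut (R ⧸ frattini R)) := H49.finite_mulAut
  haveI : Group.IsSolvable φ.range := Group.isSolvable_of_surjective φ.rangeRestrict_surjective
  have hcard : Nat.card φ.range ≤ (p ^ (p * n)).factorial := by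
    refine (Subgroup.card_le_card_group _).trans ?_
    refine (Nat.card_le_card_of_injective (fun e : MulAut (R ⧸ frattini R) => (e.toEquiv : Equiv.Perm _))
      fun e e' h => MulEquiv.toEquiv_injective h).trans ?_
    rw [Nat.card_perm]
    exact Nat.factorial_le hV
  have htop : derivedSeries X (p ^ (p * n)).factorial ≤ R := by
    refine le_trans ?_ hker
    intro x hx
    have h := map_derivedSeries_le_derivedSeries φ.rangeRestrict _ ⟨x, hx, rfl⟩
    rw [derivedSeries_card_eq_bot hcard, Subgroup.mem_bot] at h
    exact congrArg Subtype.val h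
  refine eq_bot_iff.2 ((AlmostRegular.derivedSeries_add_le R htop _).trans ?_)
  rw [hder, Subgroup.map_bot]

/-- The bound. -/
def bound (p n : ℕ) : ℕ :=
  (p ^ (p * n)).factorial + (AlmostRegular.layerBound p n + (AlmostRegular.xi p + 2)) +
    AlmostRegular.xi p

/-- **Alperin's theorem**. -/
theorem derivedSeries_eq_bot {G : Type u} [Group G] [Finite G] [Group.IsSolvable G] (α : MulAut G)
    (hα : α ^ p = 1) (hfix : Nat.card {g : G // α g = g} = p ^ n) :
    derivedSeries G (bound p n) = ⊥ := by
  set K := Cfsg.pPrimeCore p G with hK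
  have hKmap : K.map (α : G →* G) = K := Subgroup.characteristic_iff_map_eq.1 inferInstance α
  have hit : ∀ j, (α : G ≃* G)^[j] = ⇑(α ^ j) := fun j => by
    induction j with
    | zero => rfl
    | succ j ih => funext y; rw [Function.iterate_succ_apply', ih, pow_succ']; rfl
  have hpow : ∀ g, (α : G ≃* G)^[p] g = g := fun g => by rw [hit, hα]; rfl
  -- the core is nilpotent of bounded class
  set β : K ≃* K := restrictEquiv α K hKmap with hβ
  have hβfix : ∀ x : K, β x = x → x = 1 := by
    intro x hx
    have hxf : α (x : G) = x := congrArg Subtype.val hx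
    let S : Subgroup G := MonoidHom.eqLocus (α : G ≃* G).toMonoidHom (MonoidHom.id G)
    have h1 : (⟨(x : G), hxf⟩ : S) ^ Nat.card S = 1 := pow_card_eq_one'
    have hS : Nat.card S = p ^ n := hfix
    have h2 : (x : G) ^ p ^ n = 1 := hS ▸ congrArg Subtype.val h1
    have h3 : orderOf (x : G) ∣ Nat.card K := by
      rw [Subgroup.orderOf_coe]
      exact orderOf_dvd_natCard x
    have h4 := Nat.eq_one_of_dvd_coprimes (Cores.coprime_card_pPrimeCore.pow_right n) h3
      (orderOf_dvd_of_pow_eq_one h2)
    exact Subtype.ext (orderOf_eq_one_iff.1 h4)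
  have hβp : ∀ x : K, β^[p] x = x := fun x => Subtype.ext (by
    have e : ∀ j, ((β^[j] x : K) : G) = (α : G ≃* G)^[j] (x : G) := by
      intro j
      induction j with
      | zero => rfl
      | succ j ih => rw [Function.iterate_succ_apply', Function.iterate_succ_apply', ← ih]; rfl
    rw [e, hpow])
  have hKder : derivedSeries K (AlmostRegular.xi p) = ⊥ := by
    have h := Higman.lowerCentralSeries_eq_bot β p hβfix hβp
      (GradedLie.classLE_xi (Higman.isGrading β p hβfix))
    refine eq_bot_iff.2 (le_trans ?_ h.le)
    clear h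
    show derivedSeries K (AlmostRegular.xi p) ≤ (⊤ : Subgroup K).lowerCentralSeries (AlmostRegular.xi p)
    generalize AlmostRegular.xi p = j
    induction j with
    | zero => simp
    | succ j ih =>
      rw [derivedSeries_succ, Subgroup.lowerCentralSeries_succ]
      exact Subgroup.commutator_mono ih le_top
  -- the quotient
  let a : G ⧸ K ≃* G ⧸ K := QuotientGroup.congr K K α hKmap
  have ha : ∀ x, a^[p] x = x := by
    intro x
    induction x using QuotientGroup.induction_on with
    | H g =>
      have e : ∀ j, a^[j] (g : G ⧸ K) = (((α : G ≃* G)^[j] g : G) : G ⧸ K) := by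
        intro j
        induction j with
        | zero => rfl
        | succ j ih => rw [Function.iterate_succ_apply', Function.iterate_succ_apply', ih]; rfl
      rw [e, hpow]
  have hafix : Nat.card {x : G ⧸ K // a x = x} ≤ p ^ n :=
    (AlmostRegular.card_fix_quot_le (QuotientGroup.mk' K) (QuotientGroup.mk'_surjective K) α a
      fun g => rfl).trans hfix.le
  have hq := derived_of_core_free a ha hafix Cores.pPrimeCore_quotient_pPrimeCore
  have hle : derivedSeries G ((p ^ (p * n)).factorial +
      (AlmostRegular.layerBound p n + (AlmostRegular.xi p + 2))) ≤ K := by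
    intro x hx
    have h := map_derivedSeries_le_derivedSeries (QuotientGroup.mk' K) _ ⟨x, hx, rfl⟩
    rw [hq, Subgroup.mem_bot] at h
    exact (QuotientGroup.eq_one_iff x).1 h
  refine eq_bot_iff.2 ((AlmostRegular.derivedSeries_add_le K hle _).trans ?_)
  rw [hKder, Subgroup.map_bot]

end Cfsg.Agent.H10.Alperin
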