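import Cfsg.Prelude.Def_Blocks
import Cfsg.Agent.H34.RelativeM
import Cfsg.Agent.H10.FixAverage

/-!
# Degrees of primitive characters of solvable groups and class sizes

Along a chief series a quasi-primitive character restricts irreducibly or is fully ramified, and the
ramified factors are not central.  With `fix_prod_le` this gives, on average over `g`, the `p`-part
of the degree below that of the class size of `g`.
-/

set_option autoImplicit false
set_option linter.style.haveILetI false

namespace Cfsg.Agent.H10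

open Finset Cfsg.Agent.CharBasic Cfsg.Agent.CharInduce

universe u

variable {G : Type u} [Group G] [Fintype G]

/-- Every restriction to a normal subgroup is a multiple of one irreducible character. -/
def QuasiPrimitive (χ : G → ℂ) : Prop :=
  ∀ (N : Subgroup G) [N.Normal], ∃ (φ : N → ℂ) (e : ℕ), Cfsg.IsIrrCharacter N φ ∧ 0 < e ∧
    ∀ n : N, χ n = (e : ℂ) * φ n

/-- A primitive character is quasi-primitive. -/
theorem quasiPrimitive_of_primitive {χ : G → ℂ} (hχ : Cfsg.IsIrrCharacter G χ)
    (hprim : ¬ ∃ H : Subgroup G, H ≠ ⊤ ∧ ∃ θ : ↥H → ℂ, Cfsg.IsCharacter ↥H θ ∧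
      Cfsg.indFun H θ = χ) : QuasiPrimitive χ := by
  classical
  intro N hN
  have hR : Cfsg.IsCharacter N fun n : N => χ n := CharInduce.IsChar.res (IsIrr.isCharacter hχ) N
  obtain ⟨φ, hφ⟩ := exists_constituent hR fun h => IsIrr.one_ne_zero hχ (congrFun h 1)
  obtain ⟨ψ, hψ, hind, -⟩ := exists_clifford_correspondent N hχ φ.2 hφ
  have htop : CharInduce.inertia N (φ : N → ℂ) = ⊤ := by
    by_contra h
    exact hprim ⟨_, h, ψ, IsIrr.isCharacter hψ, hind⟩
  have hinv : ∀ g, CharInduce.conjFun N (φ : N → ℂ) g = (φ : N → ℂ) := fun g => by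
    have : g ∈ CharInduce.inertia N (φ : N → ℂ) := by rw [htop]; trivial
    exact this
  obtain ⟨e, he⟩ := classInner_isChar_nat hR (IsIrr.isCharacter φ.2)
  refine ⟨φ, e, φ.2, Nat.pos_of_ne_zero fun h => hφ (by rw [he, h, Nat.cast_zero]), fun n => ?_⟩
  have hcl := congrFun (CharInduce.clifford N hχ φ.2 hφ) n
  rw [show Finset.univ.image (CharInduce.conjFun N (φ : N → ℂ)) = {(φ : N → ℂ)} from
    Finset.eq_singleton_iff_unique_mem.2 ⟨mem_image.2 ⟨1, mem_univ _, hinv 1⟩, fun ψ hψ => by
      obtain ⟨g, -, rfl⟩ := mem_image.1 hψ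
      exact hinv g⟩, sum_singleton, he] at hcl
  exact hcl

/-- The elements `y` act trivially on the `p`-chief factors. -/
def TrivialOnChief (p : ℕ) (Y : Set G) : Prop :=
  ∀ K L : Subgroup G, K.Normal → L.Normal → L < K →
    (∀ M : Subgroup G, M.Normal → L ≤ M → M ≤ K → M = L ∨ M = K) →
    (∃ j : ℕ, L.relIndex K = p ^ j) → ∀ y ∈ Y, ∀ k ∈ K, y * k * y⁻¹ * k⁻¹ ∈ L

/-- Conjugation on the quotient `K / L`. -/
noncomputable def quotAct (K L : Subgroup G) [K.Normal] [L.Normal] :
    G →* MulAut (K ⧸ L.subgroupOf K) where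
  toFun g := QuotientGroup.congr (L.subgroupOf K) (L.subgroupOf K) (MulAut.conjNormal g) (by
    ext x
    simp only [Subgroup.mem_map, Subgroup.mem_subgroupOf]
    constructor
    · rintro ⟨y, hy, rfl⟩
      simpa using (inferInstance : L.Normal).conj_mem _ hy g
    · intro hx
      refine ⟨(MulAut.conjNormal g).symm x, ?_, by simp⟩
      simpa using (inferInstance : L.Normal).conj_mem _ hx g⁻¹)
  map_one' := by
    ext v
    obtain ⟨x, rfl⟩ := QuotientGroup.mk'_surjective _ v
    simp
  map_mul' g h := by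
    ext v
    obtain ⟨x, rfl⟩ := QuotientGroup.mk'_surjective _ v
    simp [mul_assoc]

theorem quotAct_mk (K L : Subgroup G) [K.Normal] [L.Normal] (g : G) (x : K) :
    quotAct K L g (x : K ⧸ L.subgroupOf K) =
      ((MulAut.conjNormal g x : K) : K ⧸ L.subgroupOf K) := rfl

/-- A chief factor is irreducible. -/
theorem quotAct_irreducible (K L : Subgroup G) [K.Normal] [L.Normal] (hLK : L < K)
    (hchief : ∀ M : Subgroup G, M.Normal → L ≤ M → M ≤ K → M = L ∨ M = K)
    (W : Subgroup (K ⧸ L.subgroupOf K)) (hW : ∀ g, ∀ w ∈ W, quotAct K L g w ∈ W) :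
    W = ⊥ ∨ W = ⊤ := by
  set M := (W.comap (QuotientGroup.mk' (L.subgroupOf K))).map K.subtype with hM
  have hMn : M.Normal := ⟨fun m hm g => by
    obtain ⟨x, hx, rfl⟩ := hm
    exact ⟨MulAut.conjNormal g x, hW g _ hx, by simp⟩⟩
  rcases hchief M hMn (fun l hl => ⟨⟨l, hLK.le hl⟩, by
      show ((⟨l, hLK.le hl⟩ : K) : K ⧸ L.subgroupOf K) ∈ W
      rw [(QuotientGroup.eq_one_iff _).2 (show (⟨l, hLK.le hl⟩ : K) ∈ L.subgroupOf K from hl)]
      exact one_mem _, rfl⟩) (Subgroup.map_subtype_le _) with h | h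
  · left
    refine (Subgroup.eq_bot_iff_forall _).2 fun w hw => ?_
    obtain ⟨x, rfl⟩ := QuotientGroup.mk'_surjective _ w
    have : (x : G) ∈ M := ⟨x, hw, rfl⟩
    rw [h] at this
    exact (QuotientGroup.eq_one_iff _).2 this
  · right
    refine eq_top_iff.2 fun w _ => ?_
    obtain ⟨x, rfl⟩ := QuotientGroup.mk'_surjective _ w
    have : (x : G) ∈ M := by rw [h]; exact x.2
    obtain ⟨y, hy, e⟩ := this
    exact Subtype.ext e ▸ hy

theorem fibre_sum {M : Type*} [Group M] [Fintype M] (φ : G →* M) (f : M → ℕ) [Fintype φ.range] :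
    ∑ g : G, f (φ g) = Nat.card φ.ker * ∑ h : φ.range, f h := by
  classical
  rw [← sum_fiberwise_of_maps_to (g := φ.rangeRestrict) (t := univ) fun g _ => mem_univ _, mul_sum]
  refine sum_congr rfl fun h _ => ?_
  obtain ⟨g₀, rfl⟩ := φ.rangeRestrict_surjective h
  rw [sum_congr rfl fun g hg => show f (φ g) = f (φ.rangeRestrict g₀ : M) by
      rw [← (mem_filter.1 hg).2]; rfl, sum_const, smul_eq_mul]
  congr 1
  rw [Nat.card_eq_fintype_card, Fintype.card_subtype]
  refine Finset.card_equiv (Equiv.mulLeft g₀⁻¹) fun g => ?_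
  simp only [mem_filter, mem_univ, true_and, Equiv.coe_mulLeft, MonoidHom.mem_ker, map_mul, map_inv,
    inv_mul_eq_one, Subtype.ext_iff, MonoidHom.coe_rangeRestrict]
  exact eq_comm

/-- An abelian group on which `G` acts irreducibly is a `q`-group for each `q` dividing its order. -/
theorem isPGroup_of_irreducible {V : Type*} [CommGroup V] [Finite V] (p : ℕ) [hp : Fact p.Prime]
    (ψ : G →* MulAut V)
    (hirr : ∀ W : Subgroup V, (∀ g, ∀ w ∈ W, ψ g w ∈ W) → W = ⊥ ∨ W = ⊤)
    (hd : p ∣ Nat.card V) : IsPGroup p V := by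
  let W : Subgroup V :=
    { carrier := {v | ∃ n : ℕ, v ^ p ^ n = 1}
      one_mem' := ⟨0, by simp⟩
      mul_mem' := by
        rintro a b ⟨m, hm⟩ ⟨n, hn⟩
        exact ⟨m + n, by rw [mul_pow, pow_add, pow_mul, hm, one_pow, one_mul,
          mul_comm, pow_mul, hn, one_pow]⟩
      inv_mem' := by
        rintro a ⟨m, hm⟩
        exact ⟨m, by rw [inv_pow, hm, inv_one]⟩ }
  rcases hirr W (fun g w ⟨n, hn⟩ => ⟨n, by rw [← map_pow, hn, map_one]⟩) with hW | hW
  · exfalso
    obtain ⟨v, hv⟩ := exists_prime_orderOf_dvd_card' (G := V) p hd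
    have : v ∈ W := ⟨1, by rw [pow_one, ← hv, pow_orderOf_eq_one]⟩
    rw [hW, Subgroup.mem_bot] at this
    rw [this, orderOf_one] at hv
    exact hp.out.ne_one hv.symm
  · intro v
    have : v ∈ W := by rw [hW]; trivial
    exact this

/-- A factor of order `f ^ 2`: half of it is moved on average. -/
theorem ramified_bound {V : Type*} [CommGroup V] [Finite V] [Group.IsSolvable G] (p : ℕ)
    [hp : Fact p.Prime] (ψ : G →* MulAut V)
    (hirr : ∀ W : Subgroup V, (∀ g, ∀ w ∈ W, ψ g w ∈ W) → W = ⊥ ∨ W = ⊤) {f : ℕ}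
    (hf : f ^ 2 = Nat.card V) :
    Nat.card G * f.factorization p ≤
      ∑ g : G, ((Nat.card V).factorization p - (Nat.card (fixSub (ψ g))).factorization p) := by
  classical
  set k := (Nat.card V).factorization p with hk
  have hfk : 2 * f.factorization p = k := by rw [hk, ← hf, Nat.factorization_pow]; simp
  rcases Nat.eq_zero_or_pos k with hk0 | hkpos
  · rw [show f.factorization p = 0 by omega, mul_zero]
    exact Nat.zero_le _
  have hpV := isPGroup_of_irreducible p ψ hirr
    (Nat.dvd_of_factorization_pos (n := Nat.card V) (by omega))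
  have hcard : Nat.card V = p ^ k := by
    obtain ⟨j, hj⟩ := IsPGroup.iff_card.1 hpV
    rw [hk, hj, hp.out.factorization_pow, Finsupp.single_eq_same]
  have : Group.IsSolvable ψ.range := Group.isSolvable_of_surjective ψ.rangeRestrict_surjective
  haveI : Fintype ψ.range := Fintype.ofFinite _
  have hne : ψ.range ≠ ⊥ := by
    intro e0
    have hall : ∀ W : Subgroup V, W = ⊥ ∨ W = ⊤ := fun W => hirr W fun g w hw => by
      rw [show ψ g = 1 from Subgroup.mem_bot.1 (e0 ▸ ⟨g, rfl⟩)]
      exact hw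
    have : IsSimpleGroup V :=
      { exists_pair_ne := (Finite.one_lt_card_iff_nontrivial.1
          (hcard ▸ Nat.one_lt_pow (by omega) hp.out.one_lt)).exists_pair_ne
        eq_bot_or_eq_top_of_normal := fun W _ => hall W }
    have hprime : (Nat.card V).Prime := IsSimpleGroup.prime_card
    rw [← hf] at hprime
    exact Nat.Prime.not_prime_pow le_rfl hprime
  have hfix : ∀ g, (Nat.card (fixSub (ψ g))).factorization p ≤ k := fun g =>
    (Nat.factorization_le_iff_dvd Nat.card_pos.ne' Nat.card_pos.ne').2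
      (Subgroup.card_subgroup_dvd_card _) p
  have havg := fix_prod_le hcard ψ.range hne fun W hW => hirr W fun g => hW _ ⟨g, rfl⟩
  have hpk : ∀ x : ψ.range, Nat.card (fixSub (x : MulAut V)) =
      p ^ (Nat.card (fixSub (x : MulAut V))).factorization p := fun x => by
    obtain ⟨j, hj⟩ := (hpV.to_subgroup (fixSub (x : MulAut V))).exists_card_eq
    rw [hj, hp.out.factorization_pow, Finsupp.single_eq_same]
  rw [prod_congr rfl fun x _ => by rw [hpk x, ← pow_mul], prod_pow_eq_pow_sum, hcard, ← pow_mul,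
    Nat.pow_le_pow_iff_right hp.out.one_lt, ← sum_mul] at havg
  set F : MulAut V → ℕ := fun a => (Nat.card (fixSub a)).factorization p with hF
  have h2 : 2 * ∑ g : G, F (ψ g) ≤ k * Nat.card G := by
    haveI : Fintype (MulAut V) := Fintype.ofFinite _
    rw [fibre_sum ψ F, ← ψ.ker.card_mul_index, Subgroup.index_ker]
    have : 2 * ∑ h : ψ.range, F h ≤ k * Nat.card ψ.range := by linarith
    calc 2 * (Nat.card ψ.ker * ∑ h : ψ.range, F h)
        = Nat.card ψ.ker * (2 * ∑ h : ψ.range, F h) := by ring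
      _ ≤ Nat.card ψ.ker * (k * Nat.card ψ.range) := Nat.mul_le_mul_left _ this
      _ = _ := by ring
  have h3 : ∑ g : G, (k - F (ψ g)) + ∑ g : G, F (ψ g) = Nat.card G * k := by
    rw [← sum_add_distrib, sum_congr rfl fun g _ => Nat.sub_add_cancel (hfix g), sum_const,
      card_univ, ← Nat.card_eq_fintype_card, smul_eq_mul]
  show Nat.card G * f.factorization p ≤ ∑ g : G, (k - F (ψ g))
  have h4 : 2 * (Nat.card G * f.factorization p) = Nat.card G * k := by rw [← hfk]; ring
  rw [mul_comm k] at h2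
  omega

/-- The quotient of `K` by a subgroup containing its commutators. -/
@[reducible] noncomputable def quotComm (K L : Subgroup G) [L.Normal] (hab : ⁅K, K⁆ ≤ L) :
    CommGroup (K ⧸ L.subgroupOf K) :=
  { QuotientGroup.Quotient.group (L.subgroupOf K) with
    mul_comm := fun a b => by
      induction a using QuotientGroup.induction_on with
      | H a =>
      induction b using QuotientGroup.induction_on with
      | H b =>
      refine commutatorElement_eq_one_iff_mul_comm.1 ?_
      refine (QuotientGroup.eq_one_iff _).2 ?_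
      exact hab (Subgroup.commutator_mem_commutator a.2 b.2) }

/-- One normal subgroup after the other. -/
theorem exists_classBound [Group.IsSolvable G] (p : ℕ) [hp : Fact p.Prime] {χ : G → ℂ}
    (hχ : Cfsg.IsIrrCharacter G χ) (hq : QuasiPrimitive χ) (Y : Set G) (hY : TrivialOnChief p Y)
    (K : Subgroup G) (hK : K.Normal) :
    ∃ S : G → ℕ,
      (∀ g, S g + (Nat.card ↥(K ⊓ Subgroup.centralizer ({g} : Set G))).factorization p ≤
        (Nat.card K).factorization p) ∧
      (∀ (φ : K → ℂ) (e d : ℕ), Cfsg.IsIrrCharacter K φ → 0 < e →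
        (∀ k : K, χ k = (e : ℂ) * φ k) → φ 1 = (d : ℂ) →
        Nat.card G * d.factorization p ≤ ∑ g, S g) ∧
      ∀ y ∈ Y, ∀ g, S (g * y) = S g ∧ S (y * g) = S g := by
  classical
  haveI hsolv : Group.IsSolvable (G ⧸ (⊥ : Subgroup G)) :=
    Group.isSolvable_of_surjective (f := QuotientGroup.mk' ⊥) (QuotientGroup.mk'_surjective _)
  induction K using WellFoundedLT.induction with
  | _ K ih =>
  rcases eq_or_ne K ⊥ with rfl | hKbot
  · refine ⟨fun _ => 0, fun g => by simp, fun φ e d hφ _ _ hd => ?_, fun _ _ _ => ⟨rfl, rfl⟩⟩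
    have h1 := IsIrr.degree_one_of_comm (fun a b : (⊥ : Subgroup G) => Subsingleton.elim _ _) hφ
    rw [hd] at h1
    have : d = 1 := by exact_mod_cast h1
    simp [this]
  obtain ⟨L, hL, -, hLK, hchief, hab⟩ := H34.exists_chief_below (⊥ : Subgroup G) hK (bot_lt_iff_ne_bot.2 hKbot)
  obtain ⟨SL, hS1, hS2, hS3⟩ := ih L hLK hL
  haveI := hK
  haveI := hL
  letI := quotComm K L hab
  set ψ := quotAct K L with hψdef
  have hcardV : Nat.card (K ⧸ L.subgroupOf K) = L.relIndex K := (Subgroup.index_eq_card _).symm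
  have hV0 : L.relIndex K ≠ 0 := hcardV ▸ Nat.card_pos.ne'
  have hirr : ∀ W : Subgroup (K ⧸ L.subgroupOf K), (∀ g, ∀ w ∈ W, ψ g w ∈ W) → W = ⊥ ∨ W = ⊤ :=
    quotAct_irreducible K L hLK hchief
  -- the centraliser in `K` against the fixed points on `K / L`
  have hcent : ∀ g, (Nat.card ↥(K ⊓ Subgroup.centralizer ({g} : Set G))).factorization p ≤
      (Nat.card ↥(L ⊓ Subgroup.centralizer ({g} : Set G))).factorization p +
        (Nat.card (fixSub (ψ g))).factorization p := by
    intro g
    set π : ↥(K ⊓ Subgroup.centralizer ({g} : Set G)) →* K ⧸ L.subgroupOf K :=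
      (QuotientGroup.mk' (L.subgroupOf K)).comp (Subgroup.inclusion inf_le_left) with hπ
    have h1 : Nat.card ↥(K ⊓ Subgroup.centralizer ({g} : Set G)) =
        Nat.card π.range * Nat.card π.ker := by
      rw [Subgroup.card_eq_card_quotient_mul_card_subgroup π.ker,
        Nat.card_congr (QuotientGroup.quotientKerEquivRange π).toEquiv]
    have h2 : Nat.card π.ker = Nat.card ↥(L ⊓ Subgroup.centralizer ({g} : Set G)) := by
      refine Nat.card_congr
        { toFun := fun x => ⟨(x.1 : G), (QuotientGroup.eq_one_iff (Subgroup.inclusion inf_le_left x.1)).1 x.2, x.1.2.2⟩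
          invFun := fun x => ⟨⟨x, hLK.le x.2.1, x.2.2⟩,
            (QuotientGroup.eq_one_iff _).2 x.2.1⟩
          left_inv := fun _ => rfl
          right_inv := fun _ => rfl }
    have h3 : π.range ≤ fixSub (ψ g) := by
      rintro _ ⟨x, rfl⟩
      refine mem_fixSub.2 ?_
      show ψ g ((Subgroup.inclusion inf_le_left x : K) : K ⧸ L.subgroupOf K) = _
      rw [hψdef, quotAct_mk]
      refine congrArg _ (Subtype.ext ?_)
      show g * (x : G) * g⁻¹ = x
      rw [← Subgroup.mem_centralizer_singleton_iff.1 x.2.2, mul_inv_cancel_right]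
    rw [h1, h2, Nat.factorization_mul Nat.card_pos.ne' Nat.card_pos.ne', Finsupp.add_apply, add_comm]
    exact Nat.add_le_add_left
      ((Nat.factorization_le_iff_dvd Nat.card_pos.ne' Nat.card_pos.ne').2 (Subgroup.card_dvd_of_le h3) p) _
  have hfix : ∀ g, (Nat.card (fixSub (ψ g))).factorization p ≤ (L.relIndex K).factorization p :=
    fun g => hcardV ▸ (Nat.factorization_le_iff_dvd Nat.card_pos.ne' Nat.card_pos.ne').2
      (Subgroup.card_subgroup_dvd_card _) p
  have hKL : (Nat.card K).factorization p =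
      (Nat.card L).factorization p + (L.relIndex K).factorization p := by
    rw [← Subgroup.relIndex_bot_left K, ← Subgroup.relIndex_mul_relIndex ⊥ L K bot_le hLK.le,
      Subgroup.relIndex_bot_left, Nat.factorization_mul Nat.card_pos.ne' hV0, Finsupp.add_apply]
  refine ⟨fun g => SL g + ((L.relIndex K).factorization p -
    (Nat.card (fixSub (ψ g))).factorization p), fun g => ?_, fun φ e d hφ he hφχ hd => ?_,
    fun y hy g => ?_⟩
  · have a1 := hcent g
    have a2 := hS1 g
    have a3 := hfix g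
    show SL g + ((L.relIndex K).factorization p - (Nat.card (fixSub (ψ g))).factorization p) + _ ≤ _
    rw [hKL]
    omega
  · have hinv : ∀ (g : G) (n : K), φ ⟨g * n * g⁻¹, hK.conj_mem (n : G) n.2 g⟩ = φ n := fun g n => by
      have h1 := hφχ ⟨g * n * g⁻¹, hK.conj_mem (n : G) n.2 g⟩
      rw [show χ (g * (n : G) * g⁻¹) = χ n from IsIrr.isClassFunction hχ n g, hφχ n] at h1
      exact mul_left_cancel₀ (Nat.cast_ne_zero.2 he.ne') h1.symm
    rcases H34.going_down K L hLK hchief hab φ hφ hinv with h | ⟨θ, f, hθ, hres, hf⟩ | ⟨Fs, hF1, hF2, hres⟩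
    · have := hS2 _ e d h he (fun l => hφχ ⟨l, hLK.le l.2⟩) hd
      exact this.trans (sum_le_sum fun g _ => Nat.le_add_right _ _)
    · obtain ⟨dθ, hdθ⟩ := IsIrr.exists_degree hθ
      have hf0 : 0 < f := Nat.pos_of_ne_zero fun h0 => by
        rw [h0] at hf
        exact hV0 (by simpa using hf.symm)
      have hdd : d = f * dθ := by
        have h1 := congrFun hres 1
        simp only [Pi.smul_apply, smul_eq_mul] at h1
        rw [show (⟨((1 : L) : G), hLK.le (1 : L).2⟩ : K) = 1 from rfl, hd] at h1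
        have h2 : θ 1 = (dθ : ℂ) := hdθ.2
        rw [h2] at h1
        exact_mod_cast h1
      have hIH := hS2 θ (e * f) dθ hθ (Nat.mul_pos he hf0) (fun l => by
        rw [show χ (l : G) = (e : ℂ) * φ ⟨l, hLK.le l.2⟩ from hφχ ⟨l, hLK.le l.2⟩,
          show φ ⟨l, hLK.le l.2⟩ = (f : ℂ) * θ l from congrFun hres l]
        push_cast
        ring) hdθ.2
      have hdθ0 : dθ ≠ 0 := fun h0 => IsIrr.one_ne_zero hθ (by rw [hdθ.2, h0, Nat.cast_zero])
      rw [hdd, Nat.factorization_mul hf0.ne' hdθ0, Finsupp.add_apply, mul_add, sum_add_distrib]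
      refine (add_comm _ _).trans_le (Nat.add_le_add hIH ?_)
      have h := ramified_bound p ψ hirr (f := f) (hf.trans hcardV.symm)
      rw [hcardV] at h
      exact h
    · exfalso
      obtain ⟨θ, f, hθ, hf0, hθχ⟩ := hq L
      have hFc : 1 < Fs.card := by
        rw [hF2]
        exact lt_of_le_of_ne (Nat.one_le_iff_ne_zero.2 hV0) fun h => hLK.not_ge
          (Subgroup.relIndex_eq_one.1 h.symm)
      haveI : Fintype L := Fintype.ofFinite _
      have hin : ∀ ξ ∈ Fs, (e : ℂ) = (f : ℂ) * Cfsg.classInner θ ξ := by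
        intro ξ hξ
        have h1 : ((e : ℂ) • ∑ η ∈ Fs, η) = (f : ℂ) • θ := by
          funext l
          rw [← hres]
          exact (hφχ ⟨l, hLK.le l.2⟩).symm.trans (hθχ l)
        have h2 := congrArg (fun F => Cfsg.classInner F ξ) h1
        simp only [classInner_smul_left, classInner_sum_left] at h2
        rw [sum_eq_single ξ (fun η hη hne => by rw [classInner_irr (hF1 η hη) (hF1 ξ hξ), if_neg hne])
          (fun h => absurd hξ h), classInner_irr (hF1 ξ hξ) (hF1 ξ hξ), if_pos rfl, mul_one] at h2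
        exact h2
      obtain ⟨a, ha, b, hb, hne⟩ := Finset.one_lt_card.1 hFc
      have key : ∀ ξ ∈ Fs, θ = ξ := fun ξ hξ => by
        by_contra h
        have := hin ξ hξ
        rw [classInner_irr hθ (hF1 ξ hξ), if_neg h, mul_zero] at this
        exact he.ne' (by exact_mod_cast this)
      exact hne ((key a ha).symm.trans (key b hb))
  · by_cases hj : ∃ j, L.relIndex K = p ^ j
    · have hy1 : ψ y = 1 := MulEquiv.ext fun v => by
        obtain ⟨x, rfl⟩ := QuotientGroup.mk'_surjective _ v
        show ψ y (x : K ⧸ L.subgroupOf K) = (x : K ⧸ L.subgroupOf K)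
        rw [hψdef, quotAct_mk, QuotientGroup.eq_iff_div_mem, Subgroup.mem_subgroupOf]
        simpa [div_eq_mul_inv] using hY K L hK hL hLK hchief hj y hy x x.2
      refine ⟨?_, ?_⟩ <;> simp only [map_mul, hy1, one_mul, mul_one]
      · rw [(hS3 y hy g).1]
      · rw [(hS3 y hy g).2]
    · have hz : (L.relIndex K).factorization p = 0 := by
        by_contra hne
        obtain ⟨j, hjc⟩ := IsPGroup.iff_card.1 (isPGroup_of_irreducible p ψ hirr
          (hcardV ▸ Nat.dvd_of_factorization_pos hne))
        exact hj ⟨j, hcardV ▸ hjc⟩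
      simp only [hz, Nat.zero_sub, add_zero]
      exact hS3 y hy g

/-- The function for the whole group. -/
theorem exists_classBound_top [Group.IsSolvable G] (p : ℕ) [Fact p.Prime] {χ : G → ℂ}
    (hχ : Cfsg.IsIrrCharacter G χ) (hq : QuasiPrimitive χ) (Y : Set G) (hY : TrivialOnChief p Y) :
    ∃ S : G → ℕ, (∀ g, S g ≤ (Subgroup.centralizer ({g} : Set G)).index.factorization p) ∧
      (∃ g, (Cfsg.charDegree χ).factorization p ≤ S g) ∧
      ∀ y ∈ Y, ∀ g, S (g * y) = S g ∧ S (y * g) = S g := by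
  classical
  obtain ⟨S, h1, h2, h3⟩ := exists_classBound p hχ hq Y hY ⊤ inferInstance
  refine ⟨S, fun g => ?_, ?_, h3⟩
  · have h := h1 g
    rw [top_inf_eq, Subgroup.card_top, ← (Subgroup.centralizer ({g} : Set G)).card_mul_index,
      Nat.factorization_mul Nat.card_pos.ne' Subgroup.index_ne_zero_of_finite, Finsupp.add_apply] at h
    omega
  · obtain ⟨φ, e, hφ, he, hφχ⟩ := hq ⊤
    have he1 : e = 1 := by
      haveI : Fintype (⊤ : Subgroup G) := Fintype.ofFinite _
      have hirr : Cfsg.IsIrrCharacter (⊤ : Subgroup G) fun n : (⊤ : Subgroup G) => χ n :=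
        CharInduce.IsIrr.comp hχ (⊤ : Subgroup G).subtype fun x => ⟨⟨x, trivial⟩, rfl⟩
      have h := classInner_irr hirr hirr
      rw [if_pos rfl, show (fun n : (⊤ : Subgroup G) => χ n) = (e : ℂ) • φ from funext hφχ,
        classInner_smul_left, classInner_smul_right, classInner_irr hφ hφ, if_pos rfl, mul_one,
        Complex.conj_natCast] at h
      have : e * e = 1 := by exact_mod_cast h
      exact Nat.eq_one_of_mul_eq_one_right this
    obtain ⟨d, hd⟩ := IsIrr.exists_degree hχ
    have hdeg : Cfsg.charDegree χ = d := by rw [Cfsg.charDegree, hd.2]; simp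
    have h := h2 φ e d hφ he hφχ (by
      have := hφχ 1
      rw [he1, Nat.cast_one, one_mul] at this
      rw [← this]
      exact hd.2)
    rw [Nat.card_eq_fintype_card, ← card_univ, ← smul_eq_mul, ← sum_const] at h
    obtain ⟨g, -, hg⟩ := exists_le_of_sum_le univ_nonempty h
    exact ⟨g, hdeg ▸ hg⟩

end Cfsg.Agent.H10
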