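import Cfsg.Agent.H10.PrimitiveDegree
import Cfsg.Agent.Components.Fitting

/-!
# Primitive characters of metanilpotent groups of order divisible by two primes

In a metanilpotent solvable group a Sylow `p`-subgroup is trivial on the `p`-chief factors, so the
class bound at `p` only depends on the component in a Sylow `q`-subgroup, and conversely.
-/

set_option autoImplicit false
set_option linter.style.haveILetI false

namespace Cfsg.Agent.H10

open Finset
open scoped commutatorElement

variable {G : Type*} [Group G] [Fintype G]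

/-- The Fitting subgroup centralises every chief factor. -/
theorem fitting_centralizes_chief (K L : Subgroup G) [K.Normal] [L.Normal] (hLK : L < K)
    (hchief : ∀ M : Subgroup G, M.Normal → L ≤ M → M ≤ K → M = L ∨ M = K) :
    ⁅Cfsg.fittingSubgroup G, K⁆ ≤ L := by
  classical
  set F := Cfsg.fittingSubgroup G with hF
  have hFn : F.Normal := Components.fitting_normal
  have hnil : Group.IsNilpotent F := Components.fitting_isNilpotent
  rcases hchief (L ⊔ ⁅F, K⁆) inferInstance le_sup_left
      (sup_le hLK.le (Subgroup.commutator_le_right _ _)) with h | h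
  · exact h ▸ le_sup_right
  exfalso
  let Γ : ℕ → Subgroup G := fun n => ((⊤ : Subgroup F).lowerCentralSeries n).map F.subtype
  have hn : ∀ n, K ≤ L ⊔ Γ n := by
    intro n
    induction n with
    | zero =>
      refine h.ge.trans (sup_le_sup_left ?_ L)
      simp only [Γ, Subgroup.lowerCentralSeries_zero, ← MonoidHom.range_eq_map, Subgroup.range_subtype]
      exact Subgroup.commutator_le_left _ _
    | succ n ih =>
      have hΓ : Γ (n + 1) = ⁅Γ n, F⁆ := by
        simp only [Γ, Subgroup.lowerCentralSeries_succ, Subgroup.map_commutator, ← MonoidHom.range_eq_map, Subgroup.range_subtype]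
      have : (Γ (n + 1)).Normal :=
        ConjAct.normal_of_characteristic_of_normal
      set M := L ⊔ Γ (n + 1) with hM
      refine h.ge.trans (sup_le le_sup_left ?_)
      set C := (Subgroup.centralizer ((F.map (QuotientGroup.mk' M)) : Set (G ⧸ M))).comap
        (QuotientGroup.mk' M) with hC
      have hmem : ∀ x : G, (∀ f ∈ F, ⁅x, f⁆ ∈ M) → x ∈ C := by
        intro x hx
        refine Subgroup.mem_centralizer_iff.2 ?_
        rintro _ ⟨f, hf, rfl⟩
        refine (commutatorElement_eq_one_iff_mul_comm.1 ?_).symm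
        rw [← map_commutatorElement]
        exact (QuotientGroup.eq_one_iff _).2 (hx f hf)
      have hKC : K ≤ C := ih.trans (sup_le
        (fun l hl => hmem l fun f hf => le_sup_left (a := L)
          (Subgroup.commutator_le_left L F (Subgroup.commutator_mem_commutator hl hf)))
        (fun x hx => hmem x fun f hf => le_sup_right (a := L)
          (hΓ ▸ Subgroup.commutator_mem_commutator hx hf)))
      refine Subgroup.commutator_le.2 fun f hf k hk => (QuotientGroup.eq_one_iff _).1 ?_
      show QuotientGroup.mk' M ⁅f, k⁆ = 1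
      rw [map_commutatorElement, commutatorElement_eq_one_iff_mul_comm]
      exact Subgroup.mem_centralizer_iff.1 (hKC hk) _ ⟨f, hf, rfl⟩
  obtain ⟨n, hn'⟩ := Subgroup.nilpotent_iff_lowerCentralSeries.1 hnil
  have := hn n
  simp only [Γ, hn', Subgroup.map_bot, sup_bot_eq] at this
  exact hLK.not_ge this

/-- A Sylow `p`-subgroup of a metanilpotent solvable group is trivial on `p`-chief factors. -/
theorem trivialOnChief_sylow [Group.IsSolvable G] [(Cfsg.fittingSubgroup G).Normal]
    (hmeta : Group.IsNilpotent (G ⧸ Cfsg.fittingSubgroup G)) (p : ℕ) [hp : Fact p.Prime]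
    (P : Sylow p G) : TrivialOnChief p (P : Set G) := by
  classical
  intro K L hK hL hLK hchief ⟨j, hj⟩ y hy k hk
  have := fitting_centralizes_chief K L hLK hchief
  set ψ := quotAct K L with hψ
  have htriv : ∀ f ∈ Cfsg.fittingSubgroup G, ψ f = 1 := by
    intro f hf
    refine MulEquiv.ext fun v => ?_
    obtain ⟨x, rfl⟩ := QuotientGroup.mk'_surjective _ v
    show ψ f (x : K ⧸ L.subgroupOf K) = (x : K ⧸ L.subgroupOf K)
    rw [hψ, quotAct_mk, QuotientGroup.eq_iff_div_mem, Subgroup.mem_subgroupOf]
    simpa [div_eq_mul_inv, commutatorElement_def] using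
      this (Subgroup.commutator_mem_commutator hf x.2)
  set π := QuotientGroup.mk' (Cfsg.fittingSubgroup G) with hπ
  have hπs : Function.Surjective π := QuotientGroup.mk'_surjective _
  have hPn : ((P : Subgroup G).map π).Normal := by
    have h := ((Group.isNilpotent_of_finite_tfae (G := G ⧸ Cfsg.fittingSubgroup G)).out 0 3).1 hmeta
    exact h p hp (P.mapSurjective hπs)
  have hN : ((P : Subgroup G).map π).comap π ≤ ((P : Subgroup G).map ψ).comap ψ := by
    rw [Subgroup.comap_map_eq, QuotientGroup.ker_mk']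
    refine sup_le (fun x hx => ⟨x, hx, rfl⟩) fun f hf => ?_
    rw [Subgroup.mem_comap, htriv f hf]
    exact one_mem _
  set R := (P : Subgroup G).map ψ with hR
  have hconj : ∀ g : G, ∀ r ∈ R, ψ g⁻¹ * r * ψ g ∈ R := by
    rintro g _ ⟨x, hx, rfl⟩
    rw [← map_mul, ← map_mul]
    refine hN (Subgroup.mem_comap.2 ?_)
    simpa using hPn.conj_mem (π x) ⟨x, hx, rfl⟩ (π g⁻¹)
  let W : Subgroup (K ⧸ L.subgroupOf K) :=
    { carrier := {v | ∀ r ∈ R, r v = v}
      one_mem' := fun r _ => map_one r
      mul_mem' := fun ha hb r hr => by rw [map_mul, ha r hr, hb r hr]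
      inv_mem' := fun ha r hr => by rw [map_inv, ha r hr] }
  have hpV : IsPGroup p (K ⧸ L.subgroupOf K) :=
    IsPGroup.of_card (n := j) ((Subgroup.index_eq_card _).symm.trans hj)
  have hW : W ≠ ⊥ := by
    have hdvd : p ∣ Nat.card (K ⧸ L.subgroupOf K) := by
      have : Nat.card (K ⧸ L.subgroupOf K) = p ^ j := (Subgroup.index_eq_card _).symm.trans hj
      rw [this]
      refine dvd_pow_self p ?_
      rintro rfl
      exact hLK.not_ge (Subgroup.relIndex_eq_one.1 (by simpa using hj))
    obtain ⟨v, hv, hv1⟩ := (P.isPGroup'.map ψ).exists_fixed_point_of_prime_dvd_card_of_fixed_point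
      (α := K ⧸ L.subgroupOf K) hdvd (a := 1) fun d => map_one (d : MulAut (K ⧸ L.subgroupOf K))
    intro h
    have : v ∈ W := fun r hr => hv ⟨r, hr⟩
    rw [h, Subgroup.mem_bot] at this
    exact hv1 this.symm
  rcases quotAct_irreducible K L hLK hchief W (fun g v hv r hr => by
      have := congrArg (ψ g) (hv _ (hconj g r hr))
      rw [← MulAut.mul_apply, ← mul_assoc, ← mul_assoc, ← map_mul, mul_inv_cancel, map_one, one_mul,
        MulAut.mul_apply] at this
      exact this) with h | h
  · exact absurd h hW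
  · have hv : ((⟨k, hk⟩ : K) : K ⧸ L.subgroupOf K) ∈ W := by rw [h]; trivial
    have := hv (ψ y) ⟨y, hy, rfl⟩
    rw [hψ, quotAct_mk, QuotientGroup.eq_iff_div_mem, Subgroup.mem_subgroupOf] at this
    simpa [div_eq_mul_inv] using this

/-- A primitive character of a solvable metanilpotent group of two-prime order: its degree divides
a class size. -/
theorem degree_dvd_class [Group.IsSolvable G] [(Cfsg.fittingSubgroup G).Normal]
    (hmeta : Group.IsNilpotent (G ⧸ Cfsg.fittingSubgroup G))
    (h2 : (Nat.card G).primeFactors.card = 2) {χ : G → ℂ} (hχ : Cfsg.IsIrrCharacter G χ)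
    (hq : QuasiPrimitive χ) :
    ∃ g : G, Cfsg.charDegree χ ∣ (Subgroup.centralizer ({g} : Set G)).index := by
  classical
  obtain ⟨p, q, hpq, hpf⟩ := Finset.card_eq_two.1 h2
  have hp : Fact p.Prime := ⟨Nat.prime_of_mem_primeFactors (n := Nat.card G) (by rw [hpf]; simp)⟩
  have hq' : Fact q.Prime := ⟨Nat.prime_of_mem_primeFactors (n := Nat.card G) (by rw [hpf]; simp)⟩
  obtain ⟨P⟩ : Nonempty (Sylow p G) := inferInstance
  obtain ⟨Q⟩ : Nonempty (Sylow q G) := inferInstance
  have hcard : Nat.card P * Nat.card Q = Nat.card G := by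
    rw [P.card_eq_multiplicity, Q.card_eq_multiplicity]
    conv_rhs => rw [← Nat.prod_factorization_pow_eq_self (Nat.card_pos (α := G)).ne']
    rw [Finsupp.prod, Nat.support_factorization, hpf, Finset.prod_pair hpq]
  have hco : (Nat.card P).Coprime (Nat.card Q) := by
    rw [P.card_eq_multiplicity, Q.card_eq_multiplicity]
    exact Nat.Coprime.pow _ _ ((Nat.coprime_primes hp.out hq'.out).2 hpq)
  have hsplit := (Subgroup.isComplement'_of_coprime hcard hco).existsUnique
  obtain ⟨Sp, hp1, ⟨gp, hgp⟩, hp3⟩ :=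
    exists_classBound_top p hχ hq (P : Set G) (trivialOnChief_sylow hmeta p P)
  obtain ⟨Sq, hq1, ⟨gq, hgq⟩, hq3⟩ :=
    exists_classBound_top q hχ hq (Q : Set G) (trivialOnChief_sylow hmeta q Q)
  obtain ⟨⟨⟨y, hy⟩, ⟨x, hx⟩⟩, hyx : y * x = gp, -⟩ := hsplit gp
  obtain ⟨⟨⟨y', hy'⟩, ⟨x', hx'⟩⟩, hyx' : y' * x' = gq, -⟩ := hsplit gq
  have e1 : Sp (y' * x) = Sp gp := by rw [← hyx, (hp3 y' hy' x).2, (hp3 y hy x).2]
  have e2 : Sq (y' * x) = Sq gq := by rw [← hyx', (hq3 x hx y').1, (hq3 x' hx' y').1]
  refine ⟨y' * x, ?_⟩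
  obtain ⟨d, hd⟩ := Cfsg.Agent.CharBasic.IsIrr.exists_degree hχ
  have hdeg : Cfsg.charDegree χ = d := by rw [Cfsg.charDegree, hd.2]; simp
  refine (Nat.factorization_le_iff_dvd (by omega) Subgroup.index_ne_zero_of_finite).1 fun r => ?_
  rcases eq_or_ne r p with rfl | hrp
  · exact hgp.trans (e1 ▸ hp1 _)
  rcases eq_or_ne r q with rfl | hrq
  · exact hgq.trans (e2 ▸ hq1 _)
  by_cases hr : r.Prime
  · haveI := Fact.mk hr
    obtain ⟨S, h1, ⟨g, hg⟩, -⟩ := exists_classBound_top r hχ hq ∅
      (fun _ _ _ _ _ _ _ y hy => absurd hy (Set.notMem_empty y))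
    have hnd : ¬ r ∣ Nat.card G := fun h => by
      have hmem := Nat.mem_primeFactors.2 ⟨hr, h, Nat.card_pos.ne'⟩
      rw [hpf] at hmem
      simp [hrp, hrq] at hmem
    have h0 := hg.trans (h1 g)
    rw [Nat.factorization_eq_zero_of_not_dvd (fun h => hnd (h.trans (Subgroup.index_dvd_card _)))] at h0
    exact h0.trans (Nat.zero_le _)
  · simp [Nat.factorization_eq_zero_of_not_prime _ hr]

end Cfsg.Agent.H10
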